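import Groth.Agent.L16.Grosshans.BigCell
import Groth.Agent.L25.Observable.Semi
import Groth.Agent.L14.Luna.UnipRad
import Groth.Agent.L08.Borel.Quot
import Groth.Agent.L08.Borel.General
import Groth.Agent.L08.Borel.Orbit
import Groth.Agent.L19.SmoothNormal
import Groth.Agent.L25.Observable.Regular

/-!
# The torus and the big cell attached to a Borel subgroup
-/

set_option autoImplicit false
set_option backward.isDefEq.respectTransparency.types false
set_option linter.style.haveILetI false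
set_option linter.unusedSectionVars false
set_option maxHeartbeats 1000000

universe u

open CategoryTheory CategoryTheory.Limits MonoidalCategory CartesianMonoidalCategory MonObj GrpObj AlgebraicGeometry
open TensorProduct WithConv
open Groth.L25.Observable

noncomputable section

namespace Groth.L16.Grosshans

variable {k : Type u} [Field k] [IsAlgClosed k]

local notation "U1" => 𝟙_ (Over (Spec (CommRingCat.of k)))

/-- the subgroups of a lattice are finitely generated -/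
theorem subgroup_fg {n : ℕ} (H : Subgroup (Multiplicative (Fin n → ℤ))) : H.FG := by
  let H' : AddSubgroup (Fin n → ℤ) := Subgroup.toAddSubgroup' H
  have h1 : H'.FG := by
    have := (Submodule.fg_iff_addSubgroup_fg _).1
      (IsNoetherian.noetherian (AddSubgroup.toIntSubmodule H'))
    rwa [AddSubgroup.toIntSubmodule_toAddSubgroup] at this
  exact (AddSubgroup.fg_iff_mul_fg H').1 h1

/-- a conjugate, evaluated at a point -/
theorem pt_comp_conjBy {G H : Over (Spec (CommRingCat.of k))} [GrpObj G] (e : VecGrp.pt k k ≅ U1) (g : U1 ⟶ G)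
    (i : H ⟶ G) (z : VecGrp.pt k k ⟶ H) :
    z ≫ AGF.conjBy g i = (e.hom ≫ g) * (z ≫ i) * (e.hom ≫ g)⁻¹ := by
  simp only [AGF.conjBy, MonObj.comp_mul, GrpObj.comp_inv, ← Category.assoc]
  rw [toUnit_unique (z ≫ toUnit H) e.hom]

/-- the coordinate ring of a connected smooth affine group is normal -/
theorem isIntegrallyClosed_coord {G : Over (Spec (CommRingCat.of k))} [GrpObj G] [Smooth G.hom]
    [ConnectedSpace G.left] {A : Type u} [CommRing A] [HopfAlgebra k A] (ψ : G ⟶ Sp k A) [IsIso ψ]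
    [Algebra.FiniteType k A] : IsIntegrallyClosed A := by
  haveI : IsDomain A := isDomain ψ
  haveI : IsIso ψ.left := inferInstanceAs (IsIso ((Over.forget _).map ψ))
  haveI : Smooth (Sp k A).hom := by
    rw [show (Sp k A).hom = inv ψ.left ≫ G.hom by rw [IsIso.eq_inv_comp, Over.w]]; infer_instance
  haveI : Algebra.Smooth k A := by
    have hsm : Smooth (Spec.map (CommRingCat.ofHom (algebraMap k A))) := ‹Smooth (Sp k A).hom›
    rw [HasRingHomProperty.Spec_iff (P := @Smooth), CommRingCat.hom_ofHom] at hsm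
    exact RingHom.smooth_algebraMap.1 hsm
  haveI : IsNoetherianRing A := Algebra.FiniteType.isNoetherianRing k A
  haveI := Groth.L03.GeomRegular.isRegularRing_of_smooth k A
  exact Groth.L06.NormalTensor.isIntegrallyClosed_of_isNormalRing (Groth.L06.FormalFibres.isNormalRing_of_isRegularRing A)

/-- A nonzero function supported in one translate of the big cell. -/
theorem exists_cell_fun {G Bo : Over (Spec (CommRingCat.of k))} [GrpObj G] [GrpObj Bo] [IsAffine G.left]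
    [Smooth G.hom] [ConnectedSpace G.left] {A : Type u} [CommRing A] [HopfAlgebra k A] (ψ : G ⟶ Sp k A)
    [IsMonHom ψ] [IsIso ψ] [_root_.IsReduced A] [Algebra.FiniteType k A]
    {iB : Bo ⟶ G} (hB : Red.IsBorelOver k iB) :
    ∃ (a₀ : A) (w : VecGrp.pt k k ⟶ G), a₀ ≠ 0 ∧ ∀ y : VecGrp.pt k k ⟶ G, (ev ψ y).ofConv a₀ ≠ 0 →
      ∃ b' b : VecGrp.pt k k ⟶ Bo, y = (b' ≫ iB) * w * (b ≫ iB) := by
  haveI : LocallyOfFiniteType G.hom := inferInstance
  haveI : QuasiCompact G.hom := quasiCompact_of_compactSpace _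
  obtain ⟨T₀, _, iT₀, p₀, hTm, hTmono, hT, -, -, -, -, hGabs⟩ := Groth.L08.Borel.exists_absorbing_of_borel hB
  haveI := hTm; haveI := hTmono; haveI := hB.1; haveI := hB.2.1
  haveI : Mono iB := Groth.L08.mono_of_closedImmersion iB
  haveI : Mono (iT₀ ≫ iB) := mono_comp _ _
  have hmax : AGF.IsMaxTorus (iT₀ ≫ iB) := Groth.L08.Borel.isMaxTorus_of_absorbing _ hT hGabs
  obtain ⟨C, _, c, hc⟩ := Groth.L08.Borel.exists_centralizer_torus (iT₀ ≫ iB) hT
  obtain ⟨W', _, iw', W, _, iw, Q, q, a, pQ, h1', h2', h3', h4', h5', h1, h2, h3, h4, h5, hqo, hQ, hq⟩ :=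
    exists_opposite hmax hc
  haveI := h1'; haveI := h2'; haveI := h3'; haveI := h4'; haveI := h1; haveI := h2; haveI := h3; haveI := h4
  haveI := hqo; haveI := hQ
  obtain ⟨B₁, _, b₁, hB₁, w₁, hw₁⟩ := Groth.L08.Borel.exists_borel_ge iw h5
  obtain ⟨B₂, _, b₂, hB₂, w₂, hw₂⟩ := Groth.L08.Borel.exists_borel_ge iw' h5'
  obtain ⟨g₁, φ₁, hφ₁⟩ := Groth.L08.Borel.exists_borel_conj hB₁ hB
  obtain ⟨g₂, φ₂, hφ₂⟩ := Groth.L08.Borel.exists_borel_conj hB₂ hB
  obtain ⟨e, -⟩ := Groth.L08.Borel.exists_unit_iso (k := k)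
  let e : VecGrp.pt k k ≅ U1 := e
  let x₁ : VecGrp.pt k k ⟶ G := e.hom ≫ g₁
  let x₂ : VecGrp.pt k k ⟶ G := e.hom ≫ g₂
  have hc₁ : ∀ z : VecGrp.pt k k ⟶ W, ∃ b, z ≫ iw = x₁⁻¹ * (b ≫ iB) * x₁ := fun z => by
    refine ⟨(z ≫ w₁) ≫ φ₁.hom, ?_⟩
    rw [Category.assoc _ φ₁.hom, hφ₁, pt_comp_conjBy e, ← hw₁, Category.assoc]
    simp only [x₁, _root_.mul_assoc, inv_mul_cancel, _root_.mul_one, inv_mul_cancel_left]
  have hc₂ : ∀ z : VecGrp.pt k k ⟶ W', ∃ b, z ≫ iw' = x₂⁻¹ * (b ≫ iB) * x₂ := fun z => by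
    refine ⟨(z ≫ w₂) ≫ φ₂.hom, ?_⟩
    rw [Category.assoc _ φ₂.hom, hφ₂, pt_comp_conjBy e, ← hw₂, Category.assoc]
    simp only [x₂, _root_.mul_assoc, inv_mul_cancel, _root_.mul_one, inv_mul_cancel_left]
  haveI : IsIso ψ.left := inferInstanceAs (IsIso ((Over.forget _).map ψ))
  let Ω : TopologicalSpace.Opens (PrimeSpectrum A) := (q.left ≫ ψ.left).opensRange
  have hΩ : (Ω : Set (PrimeSpectrum A)).Nonempty := ⟨_, ⟨Classical.choice hQ, rfl⟩⟩
  obtain ⟨_, ⟨f, rfl⟩, hfne, hfΩ⟩ :=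
    PrimeSpectrum.isTopologicalBasis_basic_opens.exists_nonempty_subset hΩ Ω.isOpen
  have hlift : ∀ x : VecGrp.pt k k ⟶ G, (ev ψ x).ofConv f ≠ 0 → ∃ z : VecGrp.pt k k ⟶ Q, z ≫ q = x := by
    intro x hx
    let pt₀ : ↥(Spec (CommRingCat.of k)) := IsLocalRing.closedPoint k
    have e1 : x ≫ ψ = Spec.mapMulEquiv (ev ψ x) := (MulEquiv.apply_symm_apply _ _).symm
    have hmem : (x.left ≫ ψ.left) pt₀ ∈ PrimeSpectrum.basicOpen f := by
      rw [show x.left ≫ ψ.left = Spec.map (CommRingCat.ofHom (ev ψ x).ofConv.toRingHom) from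
        congrArg CommaMorphism.left e1]
      show (ev ψ x).ofConv f ∉ IsLocalRing.maximalIdeal k
      rw [IsLocalRing.maximalIdeal_eq_bot]
      exact fun h => hx h
    obtain ⟨z, hz⟩ := hfΩ hmem
    have hzx : q.left z = x.left pt₀ := ψ.left.homeomorph.injective hz
    have hrange : Set.range x.left ⊆ Set.range q.left := by
      rintro _ ⟨s, rfl⟩
      haveI : Subsingleton ↥(VecGrp.pt k k).left := inferInstanceAs (Subsingleton (PrimeSpectrum k))
      rw [Subsingleton.elim s pt₀]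
      exact ⟨z, hzx⟩
    refine ⟨Over.homMk (IsOpenImmersion.lift q.left x.left hrange) ?_, ?_⟩
    · rw [← Over.w q, ← Category.assoc, IsOpenImmersion.lift_fac, Over.w x]
    · exact Over.OverMorphism.ext (IsOpenImmersion.lift_fac _ _ _)
  refine ⟨Rt (ev ψ x₁).ofConv (L (ev ψ x₂⁻¹).ofConv f), x₂ * x₁⁻¹, fun h0 => ?_, fun y hy => ?_⟩
  · have hf0 : f ≠ 0 := fun hf => by
      obtain ⟨z, hz⟩ := hfne
      rw [SetLike.mem_coe, hf, PrimeSpectrum.basicOpen_zero] at hz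
      exact hz
    obtain ⟨x, hx⟩ : ∃ x : VecGrp.pt k k ⟶ G, (ev ψ x).ofConv f ≠ 0 := by
      by_contra h
      push Not at h
      exact hf0 (eq_of_forall_ev ψ fun x => by rw [h, map_zero])
    refine hx ?_
    have h2 := congrArg (ev ψ (x₂ * x * x₁⁻¹)).ofConv h0
    rw [apply_Rt, ← ev_mul, apply_L_pt, ← ev_mul, map_zero, _root_.mul_assoc, _root_.mul_assoc, inv_mul_cancel,
      _root_.mul_one, inv_mul_cancel_left] at h2
    exact h2
  · rw [apply_Rt, ← ev_mul, apply_L_pt, ← ev_mul] at hy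
    obtain ⟨z, hz⟩ := hlift _ hy
    rw [hq, MonObj.comp_mul, ← Category.assoc, ← Category.assoc] at hz
    obtain ⟨b, hb⟩ := hc₁ (z ≫ pQ)
    obtain ⟨b', hb'⟩ := hc₂ (z ≫ a)
    refine ⟨b', b, ?_⟩
    rw [hb, hb'] at hz
    have h3 := congrArg (fun v => x₂ * v * x₁⁻¹) hz
    simpa [_root_.mul_assoc] using h3.symm

/-- A retraction of a Borel subgroup onto a torus with the unipotent radical as kernel. -/
theorem exists_torus_data {Bo U : Over (Spec (CommRingCat.of k))} [GrpObj Bo] [GrpObj U] [IsAffine Bo.left]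
    [Smooth Bo.hom] [ConnectedSpace Bo.left] (hsol : Red.IsSolvableGrp Bo) {u : U ⟶ Bo}
    (hU : Par.IsUnipotentRadical u) :
    ∃ (n : ℕ) (T : Over (Spec (CommRingCat.of k))) (_ : GrpObj T)
      (ψT : T ⟶ Sp k (MonoidAlgebra k (Multiplicative (Fin n → ℤ)))) (iT : T ⟶ Bo) (p : Bo ⟶ T),
      IsAffine T.left ∧ IsMonHom ψT ∧ IsIso ψT ∧ _root_.IsReduced (MonoidAlgebra k (Multiplicative (Fin n → ℤ))) ∧
      Algebra.FiniteType k (MonoidAlgebra k (Multiplicative (Fin n → ℤ))) ∧ Red.IsTorus T ∧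
      IsMonHom iT ∧ IsClosedImmersion iT.left ∧ IsMonHom p ∧ iT ≫ p = 𝟙 T ∧ u ≫ p = 1 ∧
      ∀ (y : VecGrp.pt k k ⟶ Bo), y ≫ p = 1 → ∃ y', y' ≫ u = y := by
  obtain ⟨T, gT, iT, p, V, gV, v, hm, hmono, hT, hp, hip, hV, hvp, hker⟩ :=
    Groth.L14.Luna.exists_retraction_radical Bo hsol
  haveI := hm; haveI := hp
  obtain ⟨hTa, hTs, hTc, -, -⟩ := Groth.L08.Borel.torus_props hT
  haveI := hTa; haveI := hTs; haveI := hTc
  obtain ⟨hu1, hu2, hu3, hu4, hu5, hu6, hu7⟩ := hU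
  obtain ⟨hv1, hv2, hv3, hv4, hv5, hv6, hv7⟩ := hV
  haveI := hu1; haveI := hv1
  obtain ⟨f, hf⟩ := hv7 U u hu2 hu3 hu4 hu5 hu6
  obtain ⟨g, hg⟩ := hu7 V v hv2 hv3 hv4 hv5 hv6
  have hup : u ≫ p = 1 := by rw [← hf, Category.assoc, hvp, MonObj.comp_one]
  have hker' : ∀ (y : VecGrp.pt k k ⟶ Bo), y ≫ p = 1 → ∃ y', y' ≫ u = y := fun y hy => by
    obtain ⟨y', hy'⟩ := hker _ y hy
    exact ⟨y' ≫ g, by rw [Category.assoc, hg, hy']⟩
  haveI : IsClosedImmersion (iT.left ≫ p.left) := by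
    rw [← Over.comp_left, hip]; exact inferInstanceAs (IsClosedImmersion (𝟙 T.left))
  haveI : IsClosedImmersion iT.left := IsClosedImmersion.of_comp iT.left p.left
  obtain ⟨n, ⟨eT⟩⟩ := Groth.L08.Borel.exists_laurent_of_torus hT
  let ψT : T ⟶ Sp k (MonoidAlgebra k (Multiplicative (Fin n → ℤ))) := eT.hom.hom.hom
  haveI : IsMonHom ψT := eT.hom.hom.isMonHom_hom
  haveI : IsIso ψT := ⟨eT.inv.hom.hom, congrArg (fun f => f.hom.hom) eT.hom_inv_id,
    congrArg (fun f => f.hom.hom) eT.inv_hom_id⟩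
  haveI : IsDomain (MonoidAlgebra k (Multiplicative (Fin n → ℤ))) := isDomain ψT
  exact ⟨n, T, gT, ψT, iT, p, hTa, inferInstance, inferInstance, inferInstance,
    MonoidAlgebra.finiteType_iff_group_fg.2 inferInstance, hT, inferInstance, inferInstance, inferInstance, hip,
    hup, hker'⟩

end Groth.L16.Grosshans
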