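import Groth.Agent.L16.Grosshans.Core
import Groth.Agent.L16.Grosshans.Setup
import Groth.Agent.L08.Chev.Comp
import Groth.Agent.L25.Observable.UnipFixed

/-!
# The unipotent radical of a Borel subgroup is a Grosshans subgroup
-/

set_option autoImplicit false
set_option backward.isDefEq.respectTransparency.types false
set_option linter.style.haveILetI false
set_option linter.unusedSectionVars false
set_option maxHeartbeats 1000000

universe u

open CategoryTheory CategoryTheory.Limits MonoidalCategory CartesianMonoidalCategory MonObj GrpObj AlgebraicGeometry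
open WithConv
open Groth.L25.Observable

noncomputable section

namespace Groth.L16.Grosshans

variable {k : Type u} [Field k] [IsAlgClosed k]

/-- Finite generation for a connected group. -/
theorem invSub_fg_connected {G Bo U : Over (Spec (CommRingCat.of k))} [GrpObj G] [GrpObj Bo] [GrpObj U]
    [IsAffine G.left] [Smooth G.hom] [ConnectedSpace G.left] {A : Type u} [CommRing A] [HopfAlgebra k A]
    (ψ : G ⟶ Sp k A) [IsMonHom ψ] [IsIso ψ] [_root_.IsReduced A] [Algebra.FiniteType k A]
    {iB : Bo ⟶ G} (hB : Red.IsBorelOver k iB) {u : U ⟶ Bo} (hU : Par.IsUnipotentRadical u) :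
    (FinInv.invSub ψ (u ≫ iB)).FG := by
  haveI := hB.1; haveI := hB.2.1; haveI := hB.2.2.1; haveI := hB.2.2.2.1; haveI := hU.1
  haveI : IsAffine Bo.left := isAffine_of_isAffineHom iB.left
  haveI : IsDomain A := isDomain ψ
  haveI : IsIntegrallyClosed A := isIntegrallyClosed_coord ψ
  obtain ⟨n, T, _, ψT, iT, p, hTa, h1, h2, h3, h4, -, h6, h7, h8, hip, hup, hker⟩ :=
    exists_torus_data hB.2.2.2.2.1 hU
  haveI := hTa; haveI := h1; haveI := h2; haveI := h3; haveI := h4; haveI := h6; haveI := h7; haveI := h8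
  haveI : IsClosedImmersion (iT ≫ iB).left := inferInstanceAs (IsClosedImmersion (iT.left ≫ iB.left))
  obtain ⟨a₀, w, ha₀, hcell⟩ := exists_cell_fun ψ hB
  exact invSub_fg ψ ψT iB iT p u hB subgroup_fg hip hup hker ha₀ hcell

/-- The unipotent radical of a Borel subgroup has no subtorus. -/
theorem radical_props {Bo U : Over (Spec (CommRingCat.of k))} [GrpObj Bo] [GrpObj U] {u : U ⟶ Bo}
    (hU : Par.IsUnipotentRadical u) : ConnectedSpace U.left ∧ Red.HasNoSubtorus k U :=
  connected_noSubtorus_of_geomFibre U hU.2.2.2.2.2.1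

/-- Finite generation for an arbitrary linear algebraic group. -/
theorem subringFG {G Bo U : Over (Spec (CommRingCat.of k))} [GrpObj G] [GrpObj Bo] [GrpObj U] [IsAffine G.left]
    [Smooth G.hom] {iB : Bo ⟶ G} (hB : Red.IsBorelOver k iB) {u : U ⟶ Bo} (hU : Par.IsUnipotentRadical u) :
    AGF.SubringFGOver k G (AGF.rTransInv (u ≫ iB)) := by
  haveI := hB.1; haveI := hB.2.1; haveI := hB.2.2.1; haveI := hB.2.2.2.1; haveI := hU.1; haveI := hU.2.1
  haveI := hU.2.2.2.1
  haveI : IsAffine Bo.left := isAffine_of_isAffineHom iB.left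
  haveI : IsAffine U.left := isAffine_of_isAffineHom u.left
  obtain ⟨G₀, _, j, hj⟩ := Groth.L08.Chev.exists_idComp G
  haveI := hj.hom; haveI := hj.closedImm; haveI := hj.openImm; haveI := hj.smooth; haveI := hj.connectedSpace
  haveI := hj.isAffine
  haveI : Mono j := Groth.L08.mono_of_closedImmersion j
  obtain ⟨i₀, hi₀⟩ := hj.exists_lift_hom iB
  haveI : IsMonHom i₀ := Groth.L08.Borel.isMonHom_of_comp_mono i₀ j iB hi₀
  have hB₀ : Red.IsBorelOver k i₀ := by
    refine ⟨inferInstance, ?_, inferInstance, inferInstance, hB.2.2.2.2.1, fun B' _ i' _ f hc hs hcon hsol hfi => ?_⟩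
    · haveI : IsClosedImmersion (i₀.left ≫ j.left) := by rw [← Over.comp_left, hi₀]; infer_instance
      exact IsClosedImmersion.of_comp i₀.left j.left
    · haveI := hc
      exact hB.2.2.2.2.2 B' (i' ≫ j) f (inferInstanceAs (IsClosedImmersion (i'.left ≫ j.left))) hs hcon hsol
        (by rw [← Category.assoc, hfi, hi₀])
  obtain ⟨A, _, _, ψ, hA₁, hA₂, hA₃, hA₄⟩ := exists_chart G
  obtain ⟨A₀, _, _, θ, hθ₁, hθ₂, hθ₃, hθ₄⟩ := exists_chart G₀
  haveI := hA₁; haveI := hA₂; haveI := hA₃; haveI := hA₄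
  haveI := hθ₁; haveI := hθ₂; haveI := hθ₃; haveI := hθ₄
  rw [FinInv.subringFG_iff ψ (u ≫ iB), ← hi₀, ← Category.assoc]
  exact (FinInv.fg_iff_open ψ θ j (u ≫ i₀)).2 (invSub_fg_connected θ hB₀ hU)

end Groth.L16.Grosshans
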