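import Groth.Agent.L25.Observable.Semi
import Groth.Agent.L25.Observable.Regular
import Groth.Agent.L25.Observable.Transfer
import Groth.Agent.L25.GeomIrred
import Groth.Agent.L08.Borel.MatAct
import Mathlib.RingTheory.Jacobson.Ring

/-!
# Functions semi-invariant on both sides
-/

set_option autoImplicit false
set_option backward.isDefEq.respectTransparency.types false
set_option linter.unusedSectionVars false

universe u w

open CategoryTheory CategoryTheory.Limits MonoidalCategory CartesianMonoidalCategory MonObj GrpObj AlgebraicGeometry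
open Groth.L25.Observable WithConv

noncomputable section

namespace Groth.L16.Grosshans

variable {k : Type u} [Field k] {G Bo : Over (Spec (CommRingCat.of k))} [GrpObj G] [GrpObj Bo]
  {A : Type u} [CommRing A] [HopfAlgebra k A] (ψ : G ⟶ Sp k A) [IsMonHom ψ]
  (iB : Bo ⟶ G) {M : Type w} [CommGroup M] (Fm : M →* Γ(Bo.left, ⊤))

/-- the values of the functions attached to a degree -/
def chr (m : M) : (VecGrp.pt k k ⟶ Bo) → k := fun b => val b (Fm m)

theorem chr_mul (m m' : M) (b : VecGrp.pt k k ⟶ Bo) : chr Fm (m * m') b = chr Fm m b * chr Fm m' b := by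
  rw [chr, chr, chr, map_mul, val_mul]

theorem chr_one (b : VecGrp.pt k k ⟶ Bo) : chr Fm 1 b = 1 := by
  rw [chr, map_one, val_one]

theorem chr_ne_zero (m : M) (b : VecGrp.pt k k ⟶ Bo) : chr Fm m b ≠ 0 := fun h => by
  have := chr_mul Fm m m⁻¹ b
  rw [mul_inv_cancel, chr_one, h, zero_mul] at this
  exact one_ne_zero this

theorem chr_inv (m : M) (b : VecGrp.pt k k ⟶ Bo) : chr Fm m⁻¹ b = (chr Fm m b)⁻¹ := by
  refine eq_inv_of_mul_eq_one_left ?_
  rw [← chr_mul, inv_mul_cancel, chr_one]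

/-- the functions of a given degree -/
def deg (m : M) : Submodule k A where
  carrier := {f | Semi ψ iB (chr Fm m) f}
  zero_mem' x b := by rw [map_zero, map_zero, mul_zero]
  add_mem' {f g} hf hg x b := by rw [map_add, map_add, hf x b, hg x b, mul_add]
  smul_mem' c f hf x b := by rw [map_smul, map_smul, hf x b, smul_eq_mul, smul_eq_mul, mul_left_comm]

theorem mem_deg {m : M} {f : A} : f ∈ deg ψ iB Fm m ↔ Semi ψ iB (chr Fm m) f := Iff.rfl

theorem mul_mem_deg {m m' : M} {f g : A} (hf : f ∈ deg ψ iB Fm m) (hg : g ∈ deg ψ iB Fm m') :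
    f * g ∈ deg ψ iB Fm (m * m') :=
  Semi.congr (Semi.mul hf hg) fun b => (chr_mul Fm m m' b).symm

theorem one_mem_deg : (1 : A) ∈ deg ψ iB Fm 1 := fun x b => by
  rw [map_one, map_one, chr_one, _root_.mul_one]

theorem pow_mem_deg {m : M} {f : A} (hf : f ∈ deg ψ iB Fm m) (n : ℕ) : f ^ n ∈ deg ψ iB Fm (m ^ n) := by
  induction n with
  | zero => rw [pow_zero, pow_zero]; exact one_mem_deg ψ iB Fm
  | succ n ih => rw [pow_succ, pow_succ]; exact mul_mem_deg ψ iB Fm ih hf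

theorem prod_mem_deg {ι' : Type*} (s : Finset ι') {m : ι' → M} {f : ι' → A}
    (hf : ∀ i ∈ s, f i ∈ deg ψ iB Fm (m i)) : ∏ i ∈ s, f i ∈ deg ψ iB Fm (∏ i ∈ s, m i) := by
  classical
  induction s using Finset.induction_on with
  | empty => rw [Finset.prod_empty, Finset.prod_empty]; exact one_mem_deg ψ iB Fm
  | insert a s ha ih =>
    rw [Finset.prod_insert ha, Finset.prod_insert ha]
    exact mul_mem_deg ψ iB Fm (hf a (Finset.mem_insert_self a s)) (ih fun i hi => hf i (Finset.mem_insert_of_mem hi))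

/-- semi-invariance under left translation -/
def LSemi (f : A) : Prop :=
  ∃ c : (VecGrp.pt k k ⟶ Bo) → k, ∀ (b : VecGrp.pt k k ⟶ Bo) (x : VecGrp.pt k k ⟶ G),
    (ev ψ ((b ≫ iB) * x)).ofConv f = c b * (ev ψ x).ofConv f

theorem LSemi.mul {f g : A} (hf : LSemi ψ iB f) (hg : LSemi ψ iB g) : LSemi ψ iB (f * g) := by
  obtain ⟨c, hc⟩ := hf
  obtain ⟨c', hc'⟩ := hg
  exact ⟨fun b => c b * c' b, fun b x => by rw [map_mul, map_mul, hc, hc']; ring⟩

/-- a function semi-invariant on both sides -/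
def Bi (m : M) (f : A) : Prop := f ≠ 0 ∧ f ∈ deg ψ iB Fm m ∧ LSemi ψ iB f

theorem Bi.mul [IsDomain A] {m m' : M} {f g : A} (hf : Bi ψ iB Fm m f) (hg : Bi ψ iB Fm m' g) :
    Bi ψ iB Fm (m * m') (f * g) :=
  ⟨mul_ne_zero hf.1 hg.1, mul_mem_deg ψ iB Fm hf.2.1 hg.2.1, hf.2.2.mul ψ iB hg.2.2⟩

theorem Bi.one [Nontrivial A] : Bi ψ iB Fm 1 (1 : A) :=
  ⟨one_ne_zero, one_mem_deg ψ iB Fm, fun _ => 1, fun b x => by rw [map_one, map_one, _root_.mul_one]⟩

theorem Rt_apply_pt (g x : VecGrp.pt k k ⟶ G) (f : A) :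
    (ev ψ x).ofConv (Rt (ev ψ g).ofConv f) = (ev ψ (x * g)).ofConv f := by
  rw [apply_Rt, ← ev_mul]

theorem Lt_apply_pt (g x : VecGrp.pt k k ⟶ G) (f : A) :
    (ev ψ x).ofConv (Lt (ev ψ g).ofConv f) = (ev ψ (g * x)).ofConv f := by
  rw [apply_Lt, ← ev_mul]

section Closed

variable [IsIso ψ] [IsAlgClosed k] [_root_.IsReduced A] [Algebra.FiniteType k A]

theorem exists_ev_ne_zero {f : A} (hf : f ≠ 0) : ∃ x : VecGrp.pt k k ⟶ G, (ev ψ x).ofConv f ≠ 0 := by
  by_contra h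
  push Not at h
  exact hf (eq_of_forall_ev ψ fun x => by rw [h, map_zero])

theorem translate_mem_deg {m : M} {f : A} (hf : f ∈ deg ψ iB Fm m) (y : VecGrp.pt k k ⟶ G) :
    L (ev ψ y).ofConv f ∈ deg ψ iB Fm m :=
  Semi.translate hf y

theorem div_mem_deg [IsDomain A] {m m' : M} {g h : A} (hg0 : g ≠ 0) (hg : g ∈ deg ψ iB Fm m')
    (hgh : g * h ∈ deg ψ iB Fm m) : h ∈ deg ψ iB Fm (m * m'⁻¹) := by
  intro x b
  have e1 : Rt (ev ψ (b ≫ iB)).ofConv g = chr Fm m' b • g := eq_of_forall_ev ψ fun y => by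
    rw [Rt_apply_pt, map_smul, smul_eq_mul]; exact hg y b
  have e2 : Rt (ev ψ (b ≫ iB)).ofConv (g * h) = chr Fm m b • (g * h) := eq_of_forall_ev ψ fun y => by
    rw [Rt_apply_pt, map_smul, smul_eq_mul]; exact hgh y b
  have e3 : chr Fm m' b • Rt (ev ψ (b ≫ iB)).ofConv h = chr Fm m b • h := by
    refine mul_left_cancel₀ hg0 ?_
    rw [mul_smul_comm, mul_smul_comm, ← smul_mul_assoc, ← e1, ← map_mul, e2]
  have e4 := congrArg (ev ψ x).ofConv e3
  rw [map_smul, map_smul, Rt_apply_pt, smul_eq_mul, smul_eq_mul] at e4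
  rw [chr_mul, chr_inv]
  have := chr_ne_zero Fm m' b
  field_simp
  linear_combination e4

theorem LSemi.div [IsDomain A] {g h : A} (hg0 : g ≠ 0) (hg : LSemi ψ iB g) (hgh : LSemi ψ iB (g * h)) :
    LSemi ψ iB h := by
  obtain ⟨c, hc⟩ := hg
  obtain ⟨c', hc'⟩ := hgh
  have hcne : ∀ b, c b ≠ 0 := fun b h0 => by
    obtain ⟨x, hx⟩ := exists_ev_ne_zero ψ hg0
    refine hx ?_
    have := hc b ((b ≫ iB)⁻¹ * x)
    rwa [mul_inv_cancel_left, h0, zero_mul] at this
  refine ⟨fun b => c' b * (c b)⁻¹, fun b x => ?_⟩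
  have e1 : Lt (ev ψ (b ≫ iB)).ofConv g = c b • g := eq_of_forall_ev ψ fun y => by
    rw [Lt_apply_pt, map_smul, smul_eq_mul]; exact hc b y
  have e2 : Lt (ev ψ (b ≫ iB)).ofConv (g * h) = c' b • (g * h) := eq_of_forall_ev ψ fun y => by
    rw [Lt_apply_pt, map_smul, smul_eq_mul]; exact hc' b y
  have e3 : c b • Lt (ev ψ (b ≫ iB)).ofConv h = c' b • h := by
    refine mul_left_cancel₀ hg0 ?_
    rw [mul_smul_comm, mul_smul_comm, ← smul_mul_assoc, ← e1, ← map_mul, e2]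
  have e4 := congrArg (ev ψ x).ofConv e3
  rw [map_smul, map_smul, Lt_apply_pt, smul_eq_mul, smul_eq_mul] at e4
  show _ = c' b * (c b)⁻¹ * _
  have := hcne b
  field_simp
  linear_combination e4

theorem Bi.div [IsDomain A] {m m' : M} {g h : A} (hgh : Bi ψ iB Fm m (g * h)) (hg : Bi ψ iB Fm m' g) :
    Bi ψ iB Fm (m * m'⁻¹) h :=
  ⟨right_ne_zero_of_mul hgh.1, div_mem_deg ψ iB Fm hg.1 hg.2.1 hgh.2.1, LSemi.div ψ iB hg.1 hg.2.2 hgh.2.2⟩

/-- A function semi-invariant on both sides vanishes only outside the big cell. -/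
theorem mem_radical_of_cell [IsDomain A] {a₀ : A} (ha₀ : a₀ ≠ 0) {w : VecGrp.pt k k ⟶ G}
    (hcell : ∀ y : VecGrp.pt k k ⟶ G, (ev ψ y).ofConv a₀ ≠ 0 →
      ∃ b' b : VecGrp.pt k k ⟶ Bo, y = (b' ≫ iB) * w * (b ≫ iB))
    {m : M} {f : A} (hf : Bi ψ iB Fm m f) : a₀ ∈ (Ideal.span {f}).radical := by
  obtain ⟨hf0, hfm, c, hc⟩ := hf
  have hval : ∀ y, (ev ψ y).ofConv a₀ ≠ 0 → ∃ b' b, (ev ψ y).ofConv f = chr Fm m b * (c b' * (ev ψ w).ofConv f) := by
    intro y hy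
    obtain ⟨b', b, rfl⟩ := hcell y hy
    exact ⟨b', b, by rw [hfm, hc]⟩
  obtain ⟨y₀, hy₀⟩ := exists_ev_ne_zero ψ (mul_ne_zero ha₀ hf0)
  rw [map_mul, mul_ne_zero_iff] at hy₀
  have hw : (ev ψ w).ofConv f ≠ 0 := fun h0 => by
    obtain ⟨b', b, e⟩ := hval y₀ hy₀.1
    exact hy₀.2 (by rw [e, h0, mul_zero, mul_zero])
  have hcne : ∀ b, c b ≠ 0 := fun b h0 => by
    refine hw ?_
    have := hc b ((b ≫ iB)⁻¹ * w)
    rwa [mul_inv_cancel_left, h0, zero_mul] at this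
  haveI : IsJacobsonRing A := isJacobsonRing_of_finiteType (A := k)
  rw [Ideal.radical_eq_jacobson, Ideal.jacobson, Ideal.mem_sInf]
  rintro J ⟨hJle, hJ⟩
  haveI := hJ
  obtain ⟨φ, hφ⟩ := Groth.L08.Borel.exists_algHom_of_isMaximal (k := k) J
  obtain ⟨y, hy⟩ := ev_surjective ψ (toConv φ)
  have hker : ∀ a, φ a = 0 → a ∈ J := fun a ha => by simpa [ha] using hφ a
  have hfJ : φ f = 0 := by
    by_contra h
    have h2 := J.sub_mem (hJle (Ideal.mem_span_singleton_self f)) (hφ f)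
    rw [sub_sub_cancel] at h2
    exact hJ.ne_top (J.eq_top_of_isUnit_mem h2 ((isUnit_iff_ne_zero.2 h).map (algebraMap k A)))
  refine hker _ ?_
  by_contra h
  obtain ⟨b', b, e⟩ := hval y (by rw [hy]; exact h)
  rw [hy] at e
  exact mul_ne_zero (chr_ne_zero Fm m b) (mul_ne_zero (hcne b') hw) (e.symm.trans hfJ)

end Closed

end Groth.L16.Grosshans
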