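import Groth.Agent.L16.Grosshans.Basic
import Groth.Agent.L14.Luna.Eigen
import Groth.Prelude.Def_ComodSub

/-!
# Existence of functions semi-invariant on both sides
-/

set_option autoImplicit false
set_option backward.isDefEq.respectTransparency.types false
set_option linter.style.haveILetI false
set_option linter.unusedSectionVars false

universe u w

open CategoryTheory CategoryTheory.Limits MonoidalCategory CartesianMonoidalCategory MonObj GrpObj AlgebraicGeometry
open TensorProduct WithConv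
open Groth.L25.Observable
open Groth.L08 (ptAct)

noncomputable section

namespace Groth.L16.Grosshans

variable {k : Type u} [Field k] [IsAlgClosed k] {G Bo : Over (Spec (CommRingCat.of k))} [GrpObj G] [GrpObj Bo]
  {A : Type u} [CommRing A] [HopfAlgebra k A] (ψ : G ⟶ Sp k A) [IsMonHom ψ] [IsIso ψ]
  [_root_.IsReduced A] [Algebra.FiniteType k A]
  (iB : Bo ⟶ G) [IsMonHom iB] {M : Type w} [CommGroup M] (Fm : M →* Γ(Bo.left, ⊤))

theorem gPt_ev (y : VecGrp.pt k k ⟶ G) :
    Groth.L08.Borel.gPt (ev ψ y).ofConv = (Groth.L08.Borel.unitToSpec ≫ y ≫ ψ : _ ⟶ Sp k A) := by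
  rw [Groth.L08.Borel.gPt_eq]
  refine congrArg (Groth.L08.Borel.unitToSpec ≫ ·) ?_
  show Spec.mapMulEquiv (Spec.mapMulEquiv.symm (y ≫ ψ)) = _
  exact MulEquiv.apply_symm_apply _ _

/-- A nonzero function of some degree gives one semi-invariant on both sides of the same degree. -/
theorem exists_bi [IsAffine Bo.left] [Smooth Bo.hom] [ConnectedSpace Bo.left] (hsol : Red.IsSolvableGrp Bo)
    {m : M} {f : A} (hf0 : f ≠ 0) (hf : f ∈ deg ψ iB Fm m) : ∃ f' : A, Bi ψ iB Fm m f' := by
  obtain ⟨C, hCfin, hfC, hC⟩ := Groth.L08.exists_finite_subcomod (k := k) (A := A) f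
  letI := ComodSub.Comod.restr (inferInstance : HopfRep.Comod k A A) C hC
  haveI := hCfin
  have hcoe : ∀ (x : WithConv (A →ₐ[k] k)) (v : C), ((ptAct (A := A) C x v : C) : A) = Rt x.ofConv (v : A) := by
    intro x v
    rw [Groth.L08.ptAct_apply, Groth.L08.fAct_apply, Rt, AlgHom.comp_apply, AlgHom.comp_apply,
      Bialgebra.comulAlgHom_apply,
      show Coalgebra.comul (R := k) (v : A) = HopfRep.Comod.coact (k := k) (A := A) (v : A) from rfl,
      ← ComodSub.restr_coact_coe (inferInstance : HopfRep.Comod k A A) C hC v]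
    generalize HopfRep.Comod.coact (k := k) (A := A) v = z
    induction z using TensorProduct.induction_on with
    | zero => simp
    | add p q hp hq => simp only [map_add, Submodule.coe_add, hp, hq]
    | tmul p q => simp
  haveI : IsMonHom (iB ≫ ψ) := inferInstance
  obtain ⟨W, θ, x₀, hW, hθ, heig⟩ := Groth.L14.Luna.exists_eigen (A := A) (V := C) hsol (iB ≫ ψ)
    (v := ⟨f, hfC⟩) (fun h => hf0 (congrArg Subtype.val h))
  obtain ⟨θ', hθ'⟩ := LinearMap.exists_extend θ
  let f' : A := TensorProduct.lid k A (θ'.rTensor A (Coalgebra.comul (R := k) f))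
  have hval : ∀ x : VecGrp.pt k k ⟶ G, (ev ψ x).ofConv f' = θ (ptAct (A := A) C (ev ψ x) ⟨f, hfC⟩) := by
    intro x
    rw [show θ (ptAct (A := A) C (ev ψ x) ⟨f, hfC⟩) = θ' (ptAct (A := A) C (ev ψ x) ⟨f, hfC⟩ : C) from
      (LinearMap.congr_fun hθ' _).symm, hcoe, Rt, AlgHom.comp_apply, AlgHom.comp_apply, Bialgebra.comulAlgHom_apply]
    show (ev ψ x).ofConv (TensorProduct.lid k A (θ'.rTensor A (Coalgebra.comul (R := k) f))) = _
    generalize Coalgebra.comul (R := k) f = z
    induction z using TensorProduct.induction_on with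
    | zero => simp
    | add p q hp hq => simp only [map_add, hp, hq]
    | tmul p q => simp [mul_comm]
  have hb : ∀ b : VecGrp.pt k k ⟶ Bo,
      Groth.L08.Borel.gPt (ev ψ (b ≫ iB)).ofConv = (Groth.L08.Borel.unitToSpec ≫ b) ≫ iB ≫ ψ := fun b => by
    rw [gPt_ev]; exact (congrArg _ (Category.assoc _ _ _)).trans (Category.assoc _ _ _).symm
  have hfix : ∀ b : VecGrp.pt k k ⟶ Bo,
      ptAct (A := A) C (ev ψ (b ≫ iB)) ⟨f, hfC⟩ = chr Fm m b • (⟨f, hfC⟩ : C) := fun b => Subtype.ext (by
    rw [hcoe, Submodule.coe_smul]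
    exact eq_of_forall_ev ψ fun y => by rw [Rt_apply_pt, map_smul, smul_eq_mul]; exact hf y b)
  refine ⟨f', fun h0 => ?_, fun x b => ?_, fun b => θ (ptAct (A := A) C (ev ψ (b ≫ iB))
    (ptAct (A := A) C x₀ ⟨f, hfC⟩)), fun b x => ?_⟩
  · obtain ⟨x, hx⟩ := ev_surjective ψ x₀
    have := hval x
    rw [hx, hθ, h0, map_zero] at this
    exact zero_ne_one this
  · rw [hval, hval, ev_mul, map_mul, Module.End.mul_apply, hfix, map_smul, map_smul, smul_eq_mul]
  · rw [hval, hval, ev_mul, map_mul, Module.End.mul_apply]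
    exact (heig _ _ (hb b) _ (hW _)).2

end Groth.L16.Grosshans
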