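import Groth.Agent.L08.Borel.DynCell

/-!
# A pair of opposite solvable subgroups with open product
-/

set_option autoImplicit false
set_option backward.isDefEq.respectTransparency.types false
set_option linter.style.haveILetI false
set_option linter.unusedSectionVars false
set_option maxHeartbeats 2000000

universe u

open CategoryTheory CategoryTheory.Limits MonoidalCategory CartesianMonoidalCategory MonObj GrpObj AlgebraicGeometry
open TensorProduct WithConv
open Groth.L25.Bridge (P)
open Groth.L08.TorusQuot (sp sp_left sp_comp exists_sp toPt toPt_pre toPt_post SP Pt pre spA)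
open Groth.L08.HomSpace (exists_hopfIdeal)
open Groth.L25.Dyn (jPlus jU lamP lamW cst pmap)
open Groth.L08.Borel

noncomputable section

namespace Groth.L16.Grosshans

variable {k : Type u} [Field k] [IsAlgClosed k]

local notation "U1" => 𝟙_ (Over (Spec (CommRingCat.of k)))

/-- Two connected solvable closed subgroups whose product contains a non-empty open set. -/
theorem exists_opposite {G T C : Over (Spec (CommRingCat.of k))} [GrpObj G] [GrpObj T] [GrpObj C] [IsAffine G.left]
    [Smooth G.hom] [ConnectedSpace G.left] {iT : T ⟶ G} (hT : AGF.IsMaxTorus iT) {c : C ⟶ G}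
    (hc : Red.IsCentralizerOf iT c) :
    ∃ (W' : Over (Spec (CommRingCat.of k))) (_ : GrpObj W') (iw' : W' ⟶ G)
      (W : Over (Spec (CommRingCat.of k))) (_ : GrpObj W) (iw : W ⟶ G)
      (Q : Over (Spec (CommRingCat.of k))) (q : Q ⟶ G) (a : Q ⟶ W') (p : Q ⟶ W),
      IsMonHom iw' ∧ IsClosedImmersion iw'.left ∧ Smooth W'.hom ∧ ConnectedSpace W'.left ∧ Red.IsSolvableGrp W' ∧
      IsMonHom iw ∧ IsClosedImmersion iw.left ∧ Smooth W.hom ∧ ConnectedSpace W.left ∧ Red.IsSolvableGrp W ∧
      IsOpenImmersion q.left ∧ Nonempty Q.left ∧ q = (a ≫ iw') * (p ≫ iw) := by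
  haveI := hT.1; haveI := hT.2.1; haveI := hc.1; haveI := hc.2.1
  haveI : LocallyOfFiniteType G.hom := inferInstance
  obtain ⟨A, _, _, ⟨eG⟩⟩ := Groth.L25.Bridge.exists_hopf G
  let φ : P k A ⟶ G := eG.inv.hom.hom
  let ψ : G ⟶ P k A := eG.hom.hom.hom
  have hψφ : ψ ≫ φ = 𝟙 G := congrArg (fun f => f.hom.hom) eG.hom_inv_id
  have hφψ : φ ≫ ψ = 𝟙 _ := congrArg (fun f => f.hom.hom) eG.inv_hom_id
  haveI : IsMonHom φ := eG.inv.hom.isMonHom_hom
  haveI : IsMonHom ψ := eG.hom.hom.isMonHom_hom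
  haveI : IsIso φ := ⟨ψ, hφψ, hψφ⟩
  haveI : IsIso ψ := ⟨φ, hψφ, hφψ⟩
  haveI : IsIso φ.left := inferInstanceAs (IsIso ((Over.forget _).map φ))
  haveI : IsIso ψ.left := inferInstanceAs (IsIso ((Over.forget _).map ψ))
  haveI hft : LocallyOfFiniteType (P k A).hom := by rw [← Over.w φ]; infer_instance
  haveI hsm : Smooth (P k A).hom := by rw [← Over.w φ]; infer_instance
  haveI : Algebra.FiniteType k A := by
    change LocallyOfFiniteType (Spec.map (CommRingCat.ofHom (algebraMap k A))) at hft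
    rwa [HasRingHomProperty.Spec_iff (P := @LocallyOfFiniteType), CommRingCat.hom_ofHom,
      RingHom.finiteType_algebraMap] at hft
  haveI : Algebra.Smooth k A := by
    change Smooth (Spec.map (CommRingCat.ofHom (algebraMap k A))) at hsm
    rw [HasRingHomProperty.Spec_iff (P := @Smooth), CommRingCat.hom_ofHom] at hsm
    exact RingHom.smooth_algebraMap.1 hsm
  haveI : Algebra.FinitePresentation k A := Algebra.FinitePresentation.of_finiteType.1 inferInstance
  haveI : ConnectedSpace (PrimeSpectrum A) := ψ.left.homeomorph.surjective.connectedSpace ψ.left.homeomorph.continuous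
  have hconn : ∀ e : A, IsIdempotentElem e → e = 0 ∨ e = 1 := idempotent_trivial
  -- the cocharacter
  obtain ⟨n, ⟨eT⟩⟩ := exists_laurent_of_torus hT.2.2.1
  let b : T ⟶ P k (MonoidAlgebra k (Multiplicative (Fin n → ℤ))) := eT.hom.hom.hom
  let bi : P k (MonoidAlgebra k (Multiplicative (Fin n → ℤ))) ⟶ T := eT.inv.hom.hom
  have hbb : b ≫ bi = 𝟙 T := congrArg (fun f => f.hom.hom) eT.hom_inv_id
  have hbb' : bi ≫ b = 𝟙 _ := congrArg (fun f => f.hom.hom) eT.inv_hom_id
  haveI : IsMonHom bi := eT.inv.hom.isMonHom_hom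
  haveI : IsMonHom b := eT.hom.hom.isMonHom_hom
  obtain ⟨cA, hcA⟩ := exists_sp (bi ≫ iT ≫ ψ)
  let eM := (AddMonoidAlgebra.toMultiplicativeBialgEquiv k k (Fin n → ℤ)).symm
  let φc : A →ₐc[k] AddMonoidAlgebra k (Fin n → ℤ) :=
    (eM : MonoidAlgebra k (Multiplicative (Fin n → ℤ)) →ₐc[k] AddMonoidAlgebra k (Fin n → ℤ)).comp cA
  obtain ⟨w, hw⟩ := Groth.L25.Dyn.exists_cocharacter φc
  let lam := lamW φc w
  obtain ⟨lamNeg, hneg⟩ := Groth.L25.Dyn.exists_neg lam
  have hback : ∀ (R : Type u) [CommRing R] [Algebra k R] (g : A →ₐ[k] R),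
      Dyn.conjOrbit k A lamNeg R g = (IsScalarTower.toAlgHom k R (LaurentPolynomial R)).comp g →
        Dyn.conjOrbit k A lam R g = (IsScalarTower.toAlgHom k R (LaurentPolynomial R)).comp g := by
    intro R _ _ g hg
    let inv : LaurentPolynomial R →ₐ[k] LaurentPolynomial R :=
      (LaurentPolynomial.invert (R := R)).toAlgHom.restrictScalars k
    have h1 : pmap inv (lamP lamNeg R) = lamP lam R := by
      refine WithConv.ext (AlgHom.ext fun a => ?_)
      show LaurentPolynomial.invert (AddMonoidAlgebra.mapAlgHom ℤ (Algebra.ofId k R)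
        ((lamNeg : A →ₐ[k] LaurentPolynomial k) a)) = AddMonoidAlgebra.mapAlgHom ℤ (Algebra.ofId k R) (lam a)
      rw [hneg]
      show LaurentPolynomial.invert (AddMonoidAlgebra.mapAlgHom ℤ (Algebra.ofId k R)
        (LaurentPolynomial.invert (lam a))) = _
      generalize (lam a) = x
      ext m
      simp [LaurentPolynomial.invert_apply, AddMonoidAlgebra.coeff_mapAlgHom]
    have h2 : pmap inv (pmap (cst (k := k) R) (toConv g)) = pmap (cst (k := k) R) (toConv g) := by
      refine WithConv.ext (AlgHom.ext fun a => ?_)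
      show LaurentPolynomial.invert (algebraMap R (LaurentPolynomial R) (g a)) = _
      exact AlgEquiv.commutes _ _
    have h3 : lamP lamNeg R * pmap (cst (k := k) R) (toConv g) * (lamP lamNeg R)⁻¹ = pmap (cst (k := k) R) (toConv g) := by
      rw [← Groth.L25.Dyn.conjOrbit_eq, hg]
      rfl
    have h4 := congrArg (pmap inv) h3
    simp only [map_mul, map_inv, h1, h2] at h4
    rw [← Groth.L25.Dyn.conjOrbit_eq] at h4
    exact congrArg WithConv.ofConv h4
  -- connectedness, smoothness and solvability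
  have main : ∀ (mu : A →ₐc[k] LaurentPolynomial k) (Jp : Ideal A) [Jp.IsHopfIdeal k], Jp = jPlus mu →
      (∀ (R : Type u) [CommRing R] [Algebra k R] (g : A →ₐ[k] R),
        Dyn.conjOrbit k A mu R g = (IsScalarTower.toAlgHom k R (LaurentPolynomial R)).comp g →
          Dyn.conjOrbit k A lam R g = (IsScalarTower.toAlgHom k R (LaurentPolynomial R)).comp g) →
      Smooth (P k (A ⧸ Jp)).hom ∧ ConnectedSpace (P k (A ⧸ Jp)).left ∧ Red.IsSolvableGrp (P k (A ⧸ Jp)) := by
    intro mu Jp _ hJp hmu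
    let qW : A →ₐc[k] A ⧸ Jp := Bialgebra.Quotient.mkBialgHom (R := k) Jp
    subst hJp
    haveI : Algebra.FormallySmooth k (A ⧸ jPlus mu) :=
      Groth.L25.Dyn.formallySmooth_of_lifts (Groth.L25.Dyn.represents_jPlus mu) fun B _ _ J hJ g hg => by
        obtain ⟨g1, hg1, hg2⟩ := Groth.L25.Dyn.exists_negKill_lift mu hJ g ((Groth.L25.Dyn.limExists_iff mu _).1 hg)
        exact ⟨g1, (Groth.L25.Dyn.limExists_iff mu _).2 hg1, hg2⟩
    haveI : Algebra.FinitePresentation k (A ⧸ jPlus mu) := Algebra.FinitePresentation.quotient (Groth.L25.Dyn.fg_jPlus mu).1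
    haveI : Algebra.Smooth k (A ⧸ jPlus mu) := ⟨inferInstance, inferInstance⟩
    haveI hWs : Smooth (P k (A ⧸ jPlus mu)).hom := by
      show Smooth (Spec.map (CommRingCat.ofHom (algebraMap k (A ⧸ jPlus mu))))
      rw [HasRingHomProperty.Spec_iff (P := @Smooth), CommRingCat.hom_ofHom]
      exact RingHom.smooth_algebraMap.2 inferInstance
    haveI : IsClosedImmersion (sp qW).left :=
      IsClosedImmersion.spec_of_surjective (CommRingCat.ofHom (qW : A →+* A ⧸ jPlus mu)) Ideal.Quotient.mk_surjective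
    haveI : IsClosedImmersion (sp qW ≫ φ).left := inferInstanceAs (IsClosedImmersion ((sp qW).left ≫ φ.left))
    haveI hWc : ConnectedSpace (P k (A ⧸ jPlus mu)).left := by
      show ConnectedSpace (PrimeSpectrum (A ⧸ jPlus mu))
      haveI : Nontrivial (A ⧸ jPlus mu) :=
        (Bialgebra.counitAlgHom k (A ⧸ jPlus mu)).toRingHom.domain_nontrivial
      refine connectedSpace_iff_clopen.2 ⟨inferInstance, fun s hs => ?_⟩
      obtain ⟨f, ⟨hf, rfl⟩, -⟩ := PrimeSpectrum.existsUnique_idempotent_basicOpen_eq_of_isClopen hs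
      rcases Groth.L25.Dyn.idem_quotient_jPlus mu _ rfl hconn f hf with rfl | rfl
      · left; rw [PrimeSpectrum.basicOpen_zero]; rfl
      · right; rw [PrimeSpectrum.basicOpen_one]; rfl
    have hWsol : Red.IsSolvableGrp (P k (A ⧸ jPlus mu)) := by
      haveI : QuasiCompact (P k (A ⧸ jPlus mu)).hom := quasiCompact_of_compactSpace _
      haveI := isSolvable_pts (isSolvableGrp_centralizer hT hc)
      let Φ : Pt k A k →* (SP k k ⟶ G) :=
        { toFun := fun g => toPt g ≫ φ
          map_one' := by rw [toPt, map_one, MonObj.one_comp]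
          map_mul' := fun g g' => by rw [toPt, map_mul, MonObj.mul_comp] }
      have hΦ : Function.Injective Φ := fun g g' e => Spec.mapMulEquiv.injective ((cancel_mono φ).1 e)
      let e1 : U1 ≅ SP k k := Over.isoMk (Iso.refl _) (by
        show 𝟙 _ ≫ Spec.map (CommRingCat.ofHom (algebraMap k k)) = 𝟙 _
        rw [Algebra.algebraMap_self, Category.id_comp]; exact Spec.map_id _)
      let Cp : (U1 ⟶ C) →* (SP k k ⟶ G) := MonoidHom.mk' (fun z => e1.inv ≫ z ≫ c) fun z z' => by
        rw [MonObj.mul_comp, MonObj.comp_mul]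
      let N : Subgroup (Pt k A k) := Cp.range.comap Φ
      haveI : Group.IsSolvable Cp.range := Group.isSolvable_of_surjective Cp.rangeRestrict_surjective
      haveI : Group.IsSolvable N :=
        Group.isSolvable_of_isSolvable_injective (f := (Φ.comp N.subtype).codRestrict Cp.range fun x => x.2)
          fun x y e => Subtype.ext (hΦ (congrArg Subtype.val e))
      haveI hsol := Dyn.isSolvable_of_limit mu (N := N) fun z hz => by
        have hcomm := hw k z.ofConv (hmu k z.ofConv hz)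
        obtain ⟨z', hz'⟩ := (hc.2.2 (SP k k) (toPt z ≫ φ)).2 fun X' x h => by
          refine Groth.L08.HomSpace.hom_ext_affine _ _ fun R _ _ v => ?_
          obtain ⟨ψR, hψR⟩ : ∃ ψR : k →ₐ[k] R, spA ψR = v ≫ x := ⟨Algebra.ofId k R, hom_ext_base _ _⟩
          obtain ⟨y, hy⟩ := (Spec.mapMulEquiv (R := k) (S := MonoidAlgebra k (Multiplicative (Fin n → ℤ)))
            (T := R)).surjective ((v ≫ h) ≫ b)
          let χ : AddMonoidAlgebra k (Fin n → ℤ) →ₐ[k] R := y.ofConv.comp
            (eM.symm : AddMonoidAlgebra k (Fin n → ℤ) →ₐc[k] MonoidAlgebra k (Multiplicative (Fin n → ℤ)))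
          have hc' : pre cA y * pmap ψR z = pmap ψR z * pre cA y := by
            have h1 : toConv (χ.comp (φc : A →ₐ[k] AddMonoidAlgebra k (Fin n → ℤ))) = pre cA y := by
              refine WithConv.ext (AlgHom.ext fun a => ?_)
              show y.ofConv (eM.symm (eM (cA a))) = y.ofConv (cA a)
              rw [BialgEquiv.symm_apply_apply]
            have h2 := (hcomm R ψR χ).eq
            rw [h1] at h2
            exact h2
          have h3 : toPt (pre cA y) * toPt (pmap ψR z) = toPt (pmap ψR z) * toPt (pre cA y) :=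
            (map_mul _ _ _).symm.trans ((congrArg toPt hc').trans (map_mul _ _ _))
          have e2 : toPt (pre cA y) ≫ φ = v ≫ h ≫ iT := by
            rw [toPt_pre, hcA, show toPt y = (v ≫ h) ≫ b from hy]
            simp only [Category.assoc, hψφ, Category.comp_id, reassoc_of% hbb]
          have e3 : toPt (pmap ψR z) ≫ φ = v ≫ x ≫ toPt z ≫ φ := by
            rw [show pmap ψR z = Groth.L08.TorusQuot.post ψR z from rfl, toPt_post, hψR]
            simp only [Category.assoc]
          have := congrArg (· ≫ φ) h3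
          simp only [MonObj.mul_comp, e2, e3] at this
          simp only [MonObj.comp_mul]
          exact this.symm
        exact ⟨e1.hom ≫ z', by
          show e1.inv ≫ (e1.hom ≫ z') ≫ c = toPt z ≫ φ
          rw [Category.assoc, Iso.inv_hom_id_assoc, hz']⟩
      refine isSolvableGrp_of_pts ?_
      let Ψ : (U1 ⟶ P k (A ⧸ jPlus mu)) →* Pt k (A ⧸ jPlus mu) k :=
        MonoidHom.mk' (fun x => Groth.L08.TorusQuot.ofPt (e1.inv ≫ x)) fun x y => by
          rw [MonObj.comp_mul]; exact map_mul _ _ _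
      exact Group.isSolvable_of_isSolvable_injective (f := Ψ) fun x y e =>
        (cancel_epi e1.inv).1 ((Spec.mapMulEquiv (R := k) (S := A ⧸ jPlus mu) (T := k)).symm.injective e)
    exact ⟨hWs, hWc, hWsol⟩
  haveI := Groth.L25.Dyn.isHopfIdeal_jPlus lam
  haveI := Groth.L25.Dyn.isHopfIdeal_jPlus lamNeg
  haveI := Groth.L25.Dyn.isHopfIdeal_jU lamNeg
  obtain ⟨hs, hcn, hsol⟩ := main lam (jPlus lam) rfl fun R _ _ g hg => hg
  obtain ⟨hs', hcn', hsol'⟩ := main lamNeg (jPlus lamNeg) rfl hback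
  let Jp := jPlus lam
  let Jn := jPlus lamNeg
  let Jm := jU lamNeg
  let qW : A →ₐc[k] A ⧸ Jp := Bialgebra.Quotient.mkBialgHom (R := k) Jp
  let qN : A →ₐc[k] A ⧸ Jn := Bialgebra.Quotient.mkBialgHom (R := k) Jn
  haveI : IsClosedImmersion (sp qW).left :=
    IsClosedImmersion.spec_of_surjective (CommRingCat.ofHom (qW : A →+* A ⧸ Jp)) Ideal.Quotient.mk_surjective
  haveI : IsClosedImmersion (sp qW ≫ φ).left := inferInstanceAs (IsClosedImmersion ((sp qW).left ≫ φ.left))
  haveI : IsClosedImmersion (sp qN).left :=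
    IsClosedImmersion.spec_of_surjective (CommRingCat.ofHom (qN : A →+* A ⧸ Jn)) Ideal.Quotient.mk_surjective
  haveI : IsClosedImmersion (sp qN ≫ φ).left := inferInstanceAs (IsClosedImmersion ((sp qN).left ≫ φ.left))
  let Q : Over (Spec (CommRingCat.of k)) := SP k ((A ⧸ Jm) ⊗[k] (A ⧸ Jp))
  let aP : Pt k A ((A ⧸ Jm) ⊗[k] (A ⧸ Jp)) := Groth.L25.Dyn.fstPt (AlgHom.id k _)
  let nP : Pt k (A ⧸ Jn) ((A ⧸ Jm) ⊗[k] (A ⧸ Jp)) :=
    toConv (Ideal.Quotient.liftₐ Jn aP.ofConv fun x hx => fstPt_id_kills Jm Jp x (le_sup_left (a := jPlus lamNeg) hx))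
  let pP : Pt k (A ⧸ Jp) ((A ⧸ Jm) ⊗[k] (A ⧸ Jp)) :=
    toConv (Algebra.TensorProduct.includeRight : A ⧸ Jp →ₐ[k] (A ⧸ Jm) ⊗[k] (A ⧸ Jp))
  refine ⟨P k (A ⧸ Jn), inferInstance, sp qN ≫ φ, P k (A ⧸ Jp), inferInstance, sp qW ≫ φ, Q,
    toPt (toConv (Groth.L25.Dyn.mulHom (k := k) Jm Jp)) ≫ φ, toPt nP, toPt pP, inferInstance, inferInstance, hs', hcn',
    hsol', inferInstance, inferInstance, hs, hcn, hsol, ?_, ?_, ?_⟩
  · haveI : IsOpenImmersion (toPt (toConv (Groth.L25.Dyn.mulHom (k := k) Jm Jp))).left :=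
      Groth.Agent.S3305.result k A lam lamNeg hneg Jp Jm (Groth.L25.Dyn.represents_jPlus lam)
        (Groth.L25.Dyn.represents_jU lamNeg)
    exact inferInstanceAs (IsOpenImmersion (_ ≫ φ.left))
  · obtain ⟨e, -⟩ := exists_one_mem_cell φ Jm Jp
    exact ⟨e.left (IsLocalRing.closedPoint k)⟩
  · rw [← Category.assoc, ← toPt_pre, ← Category.assoc, ← toPt_pre, ← MonObj.mul_comp]
    refine congrArg (· ≫ φ) (Eq.trans ?_ (map_mul _ _ _))
    refine congrArg toPt ?_
    have h := Groth.L25.Dyn.comp_mulHom (Jm := Jm) (Jp := Jp) (AlgHom.id k _)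
    rw [AlgHom.id_comp] at h
    refine h.trans ?_
    rfl

end Groth.L16.Grosshans
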