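import Groth.Agent.L16.Grosshans.Basic
import Groth.Agent.L16.FinInv.Main
import Mathlib.Algebra.MonoidAlgebra.Basic

/-!
# Decomposition of invariant functions under a torus
-/

set_option autoImplicit false
set_option backward.isDefEq.respectTransparency.types false
set_option linter.style.haveILetI false
set_option linter.unusedSectionVars false

universe u

open CategoryTheory CategoryTheory.Limits MonoidalCategory CartesianMonoidalCategory MonObj GrpObj AlgebraicGeometry
open scoped TensorProduct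
open WithConv
open Groth.L25.Observable

noncomputable section

namespace Groth.L16.Grosshans

variable {k : Type u} [Field k] {G Bo U T : Over (Spec (CommRingCat.of k))} [GrpObj G] [GrpObj Bo] [GrpObj U]
  [GrpObj T] {A : Type u} [CommRing A] [HopfAlgebra k A] (ψ : G ⟶ Sp k A) [IsMonHom ψ]
  {M : Type} [CommGroup M] (ψT : T ⟶ Sp k (MonoidAlgebra k M)) [IsMonHom ψT]

/-- the functions attached to the degrees -/
def degFun (p : Bo ⟶ T) : M →* Γ(Bo.left, ⊤) :=
  ((p.left.appTop.hom.comp (fnHom ψT) : MonoidAlgebra k M →+* Γ(Bo.left, ⊤)) : MonoidAlgebra k M →* _).comp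
    (MonoidAlgebra.of k M)

theorem chr_degFun (p : Bo ⟶ T) (m : M) (b : VecGrp.pt k k ⟶ Bo) :
    chr (degFun ψT p) m b = (ev ψT (b ≫ p)).ofConv (MonoidAlgebra.of k M m) := by
  rw [← val_fn, val_comp]
  rfl

theorem ev_of_mul (s s' : VecGrp.pt k k ⟶ T) (m : M) :
    (ev ψT (s * s')).ofConv (MonoidAlgebra.of k M m) =
      (ev ψT s).ofConv (MonoidAlgebra.of k M m) * (ev ψT s').ofConv (MonoidAlgebra.of k M m) := by
  rw [ev_mul, AlgHom.convMul_apply, (MonoidAlgebra.isGroupLikeElem_of m).comul_eq_tmul_self,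
    Algebra.TensorProduct.lift_tmul]

theorem ev_of_one (m : M) :
    (ev ψT (1 : VecGrp.pt k k ⟶ T)).ofConv (MonoidAlgebra.of k M m) = 1 := by
  rw [ev_one]
  show algebraMap k k (Coalgebra.counit (R := k) (MonoidAlgebra.of k M m)) = 1
  rw [(MonoidAlgebra.isGroupLikeElem_of m).counit_eq_one, map_one]

omit [GrpObj G] [IsMonHom ψ] in
theorem exists_coeffs (z : A ⊗[k] MonoidAlgebra k M) :
    ∃ c : M →₀ A, ∀ (x : A →ₐ[k] k) (s : MonoidAlgebra k M →ₐ[k] k),
      Algebra.TensorProduct.lift x s (fun _ _ => Commute.all _ _) z =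
        c.sum fun m a => x a * s (MonoidAlgebra.of k M m) := by
  classical
  induction z using TensorProduct.induction_on with
  | zero => exact ⟨0, fun x s => by simp⟩
  | add p q hp hq =>
    obtain ⟨c, hc⟩ := hp
    obtain ⟨d, hd⟩ := hq
    exact ⟨c + d, fun x s => by
      rw [map_add, hc, hd, Finsupp.sum_add_index' (by simp) (by intros; simp [add_mul])]⟩
  | tmul a l =>
    induction l using MonoidAlgebra.induction_linear with
    | zero => exact ⟨0, fun x s => by simp⟩
    | add p q hp hq =>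
      obtain ⟨c, hc⟩ := hp
      obtain ⟨d, hd⟩ := hq
      exact ⟨c + d, fun x s => by
        rw [TensorProduct.tmul_add, map_add, hc, hd, Finsupp.sum_add_index' (by simp) (by intros; simp [add_mul])]⟩
    | single m r =>
      refine ⟨Finsupp.single m (r • a), fun x s => ?_⟩
      rw [Algebra.TensorProduct.lift_tmul, Finsupp.sum_single_index (by simp),
        show MonoidAlgebra.single m r = r • MonoidAlgebra.of k M m by simp [MonoidAlgebra.of_apply],
        map_smul, map_smul, smul_eq_mul, smul_eq_mul]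
      ring

variable [IsAlgClosed k] [IsIso ψT] [_root_.IsReduced (MonoidAlgebra k M)] [Algebra.FiniteType k (MonoidAlgebra k M)]

/-- distinct degrees give linearly independent functions on the torus -/
theorem eq_zero_of_sum_eq_zero (S : Finset M) (a : M → k)
    (h : ∀ s : VecGrp.pt k k ⟶ T, ∑ m ∈ S, a m * (ev ψT s).ofConv (MonoidAlgebra.of k M m) = 0) :
    ∀ m ∈ S, a m = 0 := by
  classical
  intro m hm
  have h0 : ∑ m ∈ S, a m • MonoidAlgebra.of k M m = 0 := eq_of_forall_ev ψT fun s => by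
    rw [map_sum, map_zero]
    exact (Finset.sum_congr rfl fun m _ => by rw [map_smul, smul_eq_mul]).trans (h s)
  have h1 := congrArg (fun z => MonoidAlgebra.coeff z m) h0
  simpa [MonoidAlgebra.coeff_sum, Finsupp.single_apply, MonoidAlgebra.of_apply, hm] using h1

variable [IsIso ψ] [_root_.IsReduced A] [Algebra.FiniteType k A] (iB : Bo ⟶ G) [IsMonHom iB]
  (iT : T ⟶ Bo) [IsMonHom iT] (p : Bo ⟶ T) [IsMonHom p]

/-- the components of distinct degrees are independent -/
theorem deg_independent (hip : iT ≫ p = 𝟙 T) (S : Finset M) (f : M → A)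
    (hf : ∀ m ∈ S, f m ∈ deg ψ iB (degFun ψT p) m) (h0 : ∑ m ∈ S, f m = 0) : ∀ m ∈ S, f m = 0 := by
  intro m hm
  refine eq_of_forall_ev ψ fun x => ?_
  rw [map_zero]
  refine eq_zero_of_sum_eq_zero ψT S (fun m => (ev ψ x).ofConv (f m)) (fun s => ?_) m hm
  have h1 := congrArg (ev ψ (x * ((s ≫ iT) ≫ iB))).ofConv h0
  rw [map_sum, map_zero] at h1
  rw [← h1]
  refine Finset.sum_congr rfl fun m hm => ?_
  rw [hf m hm x (s ≫ iT), chr_degFun, Category.assoc, hip, Category.comp_id]
  ring

variable (u : U ⟶ Bo) [IsMonHom u]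

/-- functions with a degree are invariant -/
theorem deg_le_inv (hup : u ≫ p = 1) {m : M} {f : A} (hf : f ∈ deg ψ iB (degFun ψT p) m) :
    f ∈ FinInv.invSub ψ (u ≫ iB) := by
  intro x h
  rw [← Category.assoc, hf x (h ≫ u), chr_degFun, Category.assoc, hup, MonObj.comp_one, ev_of_one,
    _root_.one_mul]

/-- An invariant function is a sum of functions with degrees. -/
theorem exists_decomp [IsAffine G.left] [IsAffine T.left] [IsClosedImmersion (iT ≫ iB).left]
    (hip : iT ≫ p = 𝟙 T) (hker : ∀ (y : VecGrp.pt k k ⟶ Bo), y ≫ p = 1 → ∃ y', y' ≫ u = y)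
    {f : A} (hf : f ∈ FinInv.invSub ψ (u ≫ iB)) :
    ∃ c : M →₀ A, (∀ m, c m ∈ deg ψ iB (degFun ψT p) m) ∧ c.sum (fun _ a => a) = f := by
  classical
  obtain ⟨π, -, hπ⟩ := exists_res ψ ψT (iT ≫ iB)
  obtain ⟨c, hc⟩ := exists_coeffs (Algebra.TensorProduct.map (AlgHom.id k A) π (Coalgebra.comul (R := k) f))
  have hval : ∀ (x : VecGrp.pt k k ⟶ G) (s : VecGrp.pt k k ⟶ T),
      (ev ψ (x * (s ≫ iT ≫ iB))).ofConv f =
        ∑ m ∈ c.support, (ev ψ x).ofConv (c m) * (ev ψT s).ofConv (MonoidAlgebra.of k M m) := by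
    intro x s
    refine Eq.trans ?_ (hc (ev ψ x).ofConv (ev ψT s).ofConv)
    rw [ev_mul, AlgHom.convMul_apply]
    generalize Coalgebra.comul (R := k) f = z
    induction z using TensorProduct.induction_on with
    | zero => simp
    | add p q hp hq => simp only [map_add, hp, hq]
    | tmul p q => simp [hπ]
  have hkey : ∀ (x : VecGrp.pt k k ⟶ G) (b : VecGrp.pt k k ⟶ Bo),
      (ev ψ (x * (b ≫ iB))).ofConv f = (ev ψ (x * ((b ≫ p) ≫ iT ≫ iB))).ofConv f := by
    intro x b
    obtain ⟨z, hz⟩ := hker (((b ≫ p) ≫ iT)⁻¹ * b) (by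
      rw [MonObj.mul_comp, GrpObj.inv_comp, Category.assoc, hip, Category.comp_id, inv_mul_cancel])
    have e : b = ((b ≫ p) ≫ iT) * (z ≫ u) := by rw [hz, mul_inv_cancel_left]
    conv_lhs => rw [e, MonObj.mul_comp, Category.assoc z, ← _root_.mul_assoc]
    rw [hf _ z, Category.assoc]
  refine ⟨c, fun m x b => ?_, ?_⟩
  · by_cases hm : m ∈ c.support
    swap
    · rw [Finsupp.notMem_support_iff.1 hm, map_zero, map_zero, mul_zero]
    refine sub_eq_zero.1 (eq_zero_of_sum_eq_zero ψT c.support (fun m => (ev ψ (x * (b ≫ iB))).ofConv (c m) -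
      chr (degFun ψT p) m b * (ev ψ x).ofConv (c m)) (fun s => ?_) m hm)
    simp only [sub_mul, Finset.sum_sub_distrib]
    rw [← hval, sub_eq_zero, _root_.mul_assoc]
    have e : (b ≫ iB) * (s ≫ iT ≫ iB) = (b * (s ≫ iT)) ≫ iB := by
      rw [MonObj.mul_comp, Category.assoc]
    rw [e, hkey, MonObj.mul_comp, Category.assoc s, hip, Category.comp_id, hval]
    refine Finset.sum_congr rfl fun m _ => ?_
    rw [ev_of_mul, chr_degFun]
    ring
  · refine eq_of_forall_ev ψ fun x => ?_
    have h1 := hval x 1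
    rw [MonObj.one_comp, _root_.mul_one] at h1
    rw [h1, Finsupp.sum, map_sum]
    exact Finset.sum_congr rfl fun m _ => by rw [ev_of_one, _root_.mul_one]

end Groth.L16.Grosshans
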