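import Groth.Agent.L16.Grosshans.Basic
import Groth.Agent.L08.Borel.Proper
import Groth.Agent.L08.Borel.RedComp
import Mathlib.RingTheory.Valuation.LocalSubring
import Mathlib.AlgebraicGeometry.ValuativeCriterion
import Mathlib.AlgebraicGeometry.Morphisms.UniversallyOpen

/-!
# Semi-invariant functions are bounded at valuations
-/

set_option autoImplicit false
set_option backward.isDefEq.respectTransparency.types false
set_option linter.style.haveILetI false
set_option linter.unusedSectionVars false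
set_option maxHeartbeats 1000000

universe u w

open CategoryTheory CategoryTheory.Limits MonoidalCategory CartesianMonoidalCategory MonObj GrpObj AlgebraicGeometry
open Groth.L25.Observable WithConv

noncomputable section

namespace Groth.L16.Grosshans

variable {k : Type u} [Field k]

theorem ptMap_comp' {B B' B'' : Type u} [CommRing B] [Algebra k B] [CommRing B'] [Algebra k B'] [CommRing B'']
    [Algebra k B''] (f : B →ₐ[k] B') (g : B' →ₐ[k] B'') :
    VecGrp.ptMap g ≫ VecGrp.ptMap f = VecGrp.ptMap (g.comp f) := by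
  refine Over.OverMorphism.ext ?_
  show Spec.map _ ≫ Spec.map _ = Spec.map _
  rw [← Spec.map_comp]
  rfl

variable [IsAlgClosed k] {G Bo : Over (Spec (CommRingCat.of k))} [GrpObj G] [GrpObj Bo]
  {A : Type u} [CommRing A] [HopfAlgebra k A] (ψ : G ⟶ Sp k A) [IsMonHom ψ]

theorem ev_ptMap {B B' : Type u} [CommRing B] [Algebra k B] [CommRing B'] [Algebra k B'] (φ : B →ₐ[k] B')
    (γ : VecGrp.pt k B ⟶ G) (f : A) : (ev ψ (VecGrp.ptMap φ ≫ γ)).ofConv f = φ ((ev ψ γ).ofConv f) := by
  rw [← val_fn, val_ptMap, val_fn]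

variable (iB : Bo ⟶ G) {M : Type w} [CommGroup M] (Fm : M →* Γ(Bo.left, ⊤))

/-- the transformation rule of a degree holds at all points -/
theorem deg_apply [IsAffine G.left] [Smooth G.hom] [IsAffine Bo.left] [Smooth Bo.hom] {m : M} {f : A}
    (hf : f ∈ deg ψ iB Fm m) {B : Type u} [CommRing B] [Algebra k B] (x : VecGrp.pt k B ⟶ G)
    (b : VecGrp.pt k B ⟶ Bo) :
    (ev ψ (x * (b ≫ iB))).ofConv f = val b (Fm m) * (ev ψ x).ofConv f := by
  haveI : IsAffine (G ⊗ Bo).left := inferInstanceAs (IsAffine (pullback G.hom Bo.hom))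
  haveI : Smooth (G ⊗ Bo).hom := inferInstanceAs (Smooth (pullback.fst G.hom Bo.hom ≫ G.hom))
  let F₁ := ((G ◁ iB) ≫ μ[G]).left.appTop (fn ψ f)
  let F₂ := (snd G Bo).left.appTop (Fm m) * (fst G Bo).left.appTop (fn ψ f)
  have e : ∀ {C : Type u} [CommRing C] [Algebra k C] (q : VecGrp.pt k C ⟶ G ⊗ Bo),
      val q F₁ = (ev ψ ((q ≫ fst G Bo) * ((q ≫ snd G Bo) ≫ iB))).ofConv f ∧
      val q F₂ = val (q ≫ snd G Bo) (Fm m) * (ev ψ (q ≫ fst G Bo)).ofConv f := fun q => by
    refine ⟨?_, ?_⟩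
    · rw [← val_fn, ← val_comp]
      congr 1
      rw [Hom.mul_def, ← Category.assoc]; congr 1; ext <;> simp
    · rw [val_mul, ← val_fn]; rfl
  have h12 : F₁ = F₂ := eq_of_forall_val fun q => by
    rw [(e q).1, (e q).2]
    exact hf _ _
  have h := congrArg (val (lift x b)) h12
  rwa [(e _).1, (e _).2, lift_fst, lift_snd] at h

variable [IsIso ψ] [_root_.IsReduced A] [Algebra.FiniteType k A]

/-- the translates of a nonzero function generate the unit ideal -/
theorem exists_translate_isUnit {f : A} (hf : f ≠ 0) {L' : Type u} [CommRing L'] [IsLocalRing L']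
    (φ : A →+* L') : ∃ y : VecGrp.pt k k ⟶ G, IsUnit (φ (L (ev ψ y).ofConv f)) := by
  by_contra h
  push Not at h
  let S : Set A := Set.range fun y : VecGrp.pt k k ⟶ G => L (ev ψ y).ofConv f
  have hS : Ideal.span S ≤ Ideal.comap φ (IsLocalRing.maximalIdeal L') := by
    refine Ideal.span_le.2 ?_
    rintro _ ⟨y, rfl⟩
    exact h y
  have hne : Ideal.span S ≠ ⊤ := fun e => by
    have h1 : (1 : A) ∈ Ideal.comap φ (IsLocalRing.maximalIdeal L') := hS (e ▸ Submodule.mem_top)
    rw [Ideal.mem_comap, map_one] at h1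
    exact (IsLocalRing.maximalIdeal.isMaximal L').ne_top ((Ideal.eq_top_iff_one _).2 h1)
  obtain ⟨J, hJ, hJle⟩ := Ideal.exists_le_maximal _ hne
  haveI := hJ
  obtain ⟨χ, hχ⟩ := Groth.L08.Borel.exists_algHom_of_isMaximal (k := k) J
  obtain ⟨x, hx⟩ := ev_surjective ψ (toConv χ)
  obtain ⟨x₀, hx₀⟩ := exists_ev_ne_zero ψ hf
  let t : A := L (ev ψ (x₀ * x⁻¹)).ofConv f
  have ht : χ t = (ev ψ x₀).ofConv f := by
    have e1 : χ = (ev ψ x).ofConv := by rw [hx]
    rw [e1, apply_L_pt, ← ev_mul, inv_mul_cancel_right]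
  have h2 := J.sub_mem (hJle (Ideal.subset_span ⟨x₀ * x⁻¹, rfl⟩)) (hχ t)
  rw [sub_sub_cancel, ht] at h2
  exact hJ.ne_top (J.eq_top_of_isUnit_mem h2 ((isUnit_iff_ne_zero.2 hx₀).map (algebraMap k A)))

variable [IsDomain A] [IsAffine G.left] [Smooth G.hom] [ConnectedSpace G.left]

/-- A function of degree `∏ mᵢ ^ nᵢ` lies in every valuation ring containing the translates of functions of degrees
`mᵢ`. -/
theorem mem_valuationSubring (hB : Red.IsBorelOver k iB) (V : ValuationSubring (FractionRing A))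
    (hk : ∀ c : k, algebraMap A (FractionRing A) (algebraMap k A c) ∈ V)
    {σ : Type*} (s : Finset σ) (mj : σ → M) (fj : σ → A) (n : σ → ℕ)
    (hfj : ∀ i ∈ s, fj i ≠ 0 ∧ fj i ∈ deg ψ iB Fm (mj i))
    (htr : ∀ i ∈ s, ∀ y : VecGrp.pt k k ⟶ G, algebraMap A (FractionRing A) (L (ev ψ y).ofConv (fj i)) ∈ V)
    {f : A} (hf : f ∈ deg ψ iB Fm (∏ i ∈ s, mj i ^ n i)) : algebraMap A (FractionRing A) f ∈ V := by
  classical
  haveI := hB.1; haveI := hB.2.1; haveI := hB.2.2.1
  haveI : IsAffine Bo.left := isAffine_of_isAffineHom iB.left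
  haveI : LocallyOfFiniteType G.hom := inferInstance
  obtain ⟨X, a, o, hX⟩ := Groth.L08.Borel.exists_isQuotient iB
  haveI := Groth.L08.Borel.isProper_quotient_of_borel hB hX
  obtain ⟨-, hflat, hsurj, hsq⟩ := hX
  let π : G ⟶ X := a.orbitMap o
  haveI : Flat π.left := hflat
  haveI : Surjective π.left := hsurj
  let K := FractionRing A
  letI : Algebra k V := ((algebraMap k K).codRestrict V.toSubring fun c => by
    rw [IsScalarTower.algebraMap_apply k A K]; exact hk c).toAlgebra
  let vK : V →ₐ[k] K := { V.subtype with commutes' := fun _ => rfl }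
  obtain ⟨gK, hgK⟩ := ev_surjective ψ (toConv (IsScalarTower.toAlgHom k A K))
  -- the point of the quotient over the valuation ring
  haveI : UniversallyClosed X.hom := inferInstance
  have hcrit : ValuativeCriterion.Existence X.hom := by
    have := (UniversallyClosed.eq_valuativeCriterion ▸ (inferInstance : UniversallyClosed X.hom))
    exact this.1
  have hw : (gK ≫ π).left ≫ X.hom =
      Spec.map (CommRingCat.ofHom (algebraMap V K)) ≫ (VecGrp.pt k V).hom := by
    rw [Over.w (gK ≫ π)]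
    exact (Over.w (VecGrp.ptMap vK)).symm
  let sq : ValuativeCommSq X.hom :=
    { R := V
      K := K
      i₁ := (gK ≫ π).left
      i₂ := (VecGrp.pt k V).hom
      commSq := ⟨hw⟩ }
  obtain ⟨⟨l, hl₁, hl₂⟩⟩ := (hcrit sq).exists_lift
  dsimp only [sq] at l hl₁ hl₂
  let lV : VecGrp.pt k V ⟶ X := Over.homMk l hl₂
  have hlV : VecGrp.ptMap vK ≫ lV = gK ≫ π := Over.OverMorphism.ext hl₁
  -- a lift over a dominating valuation ring
  let P := pullback π.left l
  let q : P ⟶ Spec (CommRingCat.of V) := pullback.snd π.left l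
  let cl : ↥(Spec (CommRingCat.of V)) := IsLocalRing.closedPoint V
  let gen : ↥(Spec (CommRingCat.of V)) := ⟨⊥, Ideal.isPrime_bot⟩
  obtain ⟨z, hz⟩ := q.surjective cl
  obtain ⟨z', hzz', hz'⟩ := Flat.generalizingMap q (show Specializes gen (q z) by
    rw [hz]; exact IsLocalRing.specializes_closedPoint gen)
  obtain ⟨A', hA, hAloc⟩ := IsLocalRing.exists_factor_valuationRing
    (P.presheaf.stalkSpecializes hzz' ≫ P.residue z').hom
  let toA' : P.presheaf.stalk z ⟶ CommRingCat.of A' :=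
    CommRingCat.ofHom ((P.presheaf.stalkSpecializes hzz' ≫ P.residue z').hom.codRestrict _ hA)
  let m₀ : Spec (CommRingCat.of A') ⟶ P := Spec.map toA' ≫ P.fromSpecStalk z
  let incl : CommRingCat.of A' ⟶ P.residueField z' := CommRingCat.ofHom A'.subtype
  have hm₀ : Spec.map incl ≫ m₀ = P.fromSpecResidueField z' := by
    rw [Scheme.fromSpecResidueField, ← Scheme.SpecMap_stalkSpecializes_fromSpecStalk hzz']
    simp only [m₀, ← Spec.map_comp_assoc]
    rfl
  have hm₀c : m₀ (IsLocalRing.closedPoint A') = z := by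
    simp only [m₀, Scheme.Hom.comp_apply]
    have : Spec.map toA' (IsLocalRing.closedPoint A') = IsLocalRing.closedPoint (P.presheaf.stalk z) := by
      haveI : IsLocalHom toA'.hom := hAloc
      exact IsLocalRing.comap_closedPoint toA'.hom
    rw [this, Scheme.fromSpecStalk_closedPoint]
  obtain ⟨c, hc⟩ := Spec.map_surjective (m₀ ≫ q)
  have hcloc : IsLocalHom c.hom := by
    refine ((IsLocalRing.local_hom_TFAE c.hom).out 4 0).1 ?_
    have h1 : Spec.map c (IsLocalRing.closedPoint A') = cl := by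
      rw [hc, Scheme.Hom.comp_apply, hm₀c, hz]
    exact congrArg PrimeSpectrum.asIdeal h1
  letI : Algebra k A' := (c.hom.comp (algebraMap k V)).toAlgebra
  letI : Algebra k (P.residueField z') := (A'.subtype.comp (algebraMap k A')).toAlgebra
  let cA : V →ₐ[k] A' := { c.hom with commutes' := fun _ => rfl }
  let iA : A' →ₐ[k] P.residueField z' := { A'.subtype with commutes' := fun _ => rfl }
  have hinj : Function.Injective (iA.comp cA) := by
    refine (injective_iff_map_eq_zero _).2 fun v hv => ?_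
    have h1 : Spec.map (c ≫ incl) (IsLocalRing.closedPoint (P.residueField z')) = gen := by
      rw [Spec.map_comp, hc, ← Category.assoc, hm₀, Scheme.Hom.comp_apply, Scheme.fromSpecResidueField_apply, hz']
    have h2 : v ∈ (gen : PrimeSpectrum V).asIdeal := by
      rw [← h1]
      show (incl.hom (c.hom v)) ∈ IsLocalRing.maximalIdeal (P.residueField z')
      rw [show incl.hom (c.hom v) = iA.comp cA v from rfl, hv]
      exact zero_mem _
    exact (Submodule.mem_bot V).1 h2
  let j₀ : K →+* P.residueField z' := IsFractionRing.lift (A := V) (g := (iA.comp cA).toRingHom) hinj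
  have hj₀ : ∀ v : V, j₀ (v : K) = iA (cA v) := fun v =>
    IsFractionRing.lift_algebraMap (A := V) (g := (iA.comp cA).toRingHom) hinj v
  let j : K →ₐ[k] P.residueField z' :=
    { j₀ with commutes' := fun r => hj₀ (algebraMap k V r) }
  have hjv : j.comp vK = iA.comp cA := AlgHom.ext hj₀
  -- two points over the same point of the quotient
  let g₀ : VecGrp.pt k A' ⟶ G := Over.homMk (m₀ ≫ pullback.fst π.left l) (by
    show (m₀ ≫ pullback.fst π.left l) ≫ G.hom = Spec.map _
    rw [← Over.w π, Category.assoc, pullback.condition_assoc, hl₂, ← Category.assoc, ← hc]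
    show Spec.map c ≫ Spec.map (CommRingCat.ofHom (algebraMap k V)) = _
    rw [← Spec.map_comp]
    rfl)
  have hg₀ : g₀ ≫ π = VecGrp.ptMap cA ≫ lV := by
    refine Over.OverMorphism.ext ?_
    show (m₀ ≫ pullback.fst π.left l) ≫ π.left = Spec.map _ ≫ l
    rw [Category.assoc, pullback.condition, ← Category.assoc]
    exact congrArg (· ≫ l) hc.symm
  let g₁ := VecGrp.ptMap j ≫ gK
  let g₂ := VecGrp.ptMap iA ≫ g₀
  have hg : g₂ ≫ π = g₁ ≫ π := by
    simp only [g₁, g₂, Category.assoc, hg₀, ← hlV]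
    rw [← Category.assoc, ptMap_comp', ← Category.assoc (VecGrp.ptMap j), ptMap_comp', hjv]
  obtain ⟨bb, hbb₁, hbb₂⟩ : ∃ bb, bb ≫ fst G Bo = g₂ ∧ bb ≫ ((G ◁ iB) ≫ μ[G]) = g₁ :=
    ⟨hsq.lift g₂ g₁ hg, hsq.lift_fst _ _ _, hsq.lift_snd _ _ _⟩
  let b := bb ≫ snd G Bo
  have hg12 : g₁ = g₂ * (b ≫ iB) := by
    rw [← hbb₂, ← hbb₁, Hom.mul_def, ← Category.assoc]
    congr 1
    ext <;> simp [b]
  have key : ∀ (m : M) (h : A), h ∈ deg ψ iB Fm m →
      j (algebraMap A K h) = val b (Fm m) * iA ((ev ψ g₀).ofConv h) := by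
    intro m h hh
    have h1 := deg_apply ψ iB Fm hh g₂ b
    rw [← hg12, ev_ptMap, ev_ptMap, hgK] at h1
    exact h1
  have hjV : ∀ x ∈ V, j x ∈ A' := fun x hx => by
    rw [show j x = iA (cA ⟨x, hx⟩) from hj₀ ⟨x, hx⟩]
    exact (cA ⟨x, hx⟩).2
  -- the values of the degrees are integral
  have hmj : ∀ i ∈ s, val b (Fm (mj i)) ∈ A' := by
    intro i hi
    obtain ⟨y, hy⟩ := exists_translate_isUnit ψ (hfj i hi).1 (ev ψ g₀).ofConv.toRingHom
    have h1 := key _ _ (translate_mem_deg ψ iB Fm (hfj i hi).2 y)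
    have h2 : val b (Fm (mj i)) = j (algebraMap A K (L (ev ψ y).ofConv (fj i))) * iA (↑hy.unit⁻¹ : A') := by
      rw [h1, _root_.mul_assoc, ← map_mul]
      erw [hy.mul_val_inv]
      rw [map_one, _root_.mul_one]
    rw [h2]
    exact mul_mem (hjV _ (htr i hi y)) (↑hy.unit⁻¹ : A').2
  have hjf : j (algebraMap A K f) ∈ A' := by
    rw [key _ _ hf]
    refine mul_mem ?_ ((ev ψ g₀).ofConv f).2
    let vb : M →* P.residueField z' :=
      { toFun := fun m => val b (Fm m)
        map_one' := by rw [map_one, val_one]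
        map_mul' := fun m m' => by rw [map_mul, val_mul] }
    show vb (∏ i ∈ s, mj i ^ n i) ∈ A'
    rw [map_prod]
    refine prod_mem fun i hi => ?_
    rw [map_pow]
    exact pow_mem (hmj i hi) _
  -- domination
  by_contra hfV
  have hf0 : (algebraMap A K f) ≠ 0 := fun h => hfV (h ▸ zero_mem V)
  have hinvV : (algebraMap A K f)⁻¹ ∈ V := (V.mem_or_inv_mem _).resolve_left hfV
  have hnu : ¬ IsUnit (⟨_, hinvV⟩ : V) := fun hu => hfV (by
    obtain ⟨w, hw⟩ := hu.exists_left_inv
    have e : algebraMap A K f = (w : K) := by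
      have h1 := congrArg Subtype.val hw
      change (w : K) * (algebraMap A K f)⁻¹ = 1 at h1
      rwa [mul_inv_eq_one₀ hf0, eq_comm] at h1
    rw [e]; exact w.2)
  refine hnu (hcloc.map_nonunit ⟨_, hinvV⟩ (IsUnit.of_mul_eq_one ⟨_, hjf⟩ (Subtype.ext ?_)))
  show iA (cA ⟨_, hinvV⟩) * j (algebraMap A K f) = 1
  rw [← hj₀]
  show j ((algebraMap A K f)⁻¹) * j (algebraMap A K f) = 1
  rw [← map_mul, inv_mul_cancel₀ hf0, map_one]

/-- A function of degree `∏ mᵢ ^ nᵢ` is integral over any subalgebra containing the translates of functions of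
degrees `mᵢ`. -/
theorem isIntegral_of_deg (hB : Red.IsBorelOver k iB) (A₀ : Subalgebra k A)
    {σ : Type*} (s : Finset σ) (mj : σ → M) (fj : σ → A) (n : σ → ℕ)
    (hfj : ∀ i ∈ s, fj i ≠ 0 ∧ fj i ∈ deg ψ iB Fm (mj i))
    (htr : ∀ i ∈ s, ∀ y : VecGrp.pt k k ⟶ G, L (ev ψ y).ofConv (fj i) ∈ A₀)
    {f : A} (hf : f ∈ deg ψ iB Fm (∏ i ∈ s, mj i ^ n i)) : IsIntegral A₀ f := by
  let K := FractionRing A
  let S : Subring K := A₀.toSubring.map (algebraMap A K)
  have h1 : algebraMap A K f ∈ (integralClosure (Subring.closure (S : Set K)) K).toSubring := by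
    rw [← iInf_valuationSubring_superset, Subring.mem_iInf]
    rintro ⟨V, hV⟩
    exact mem_valuationSubring ψ iB Fm hB V (fun c => hV ⟨_, A₀.algebraMap_mem c, rfl⟩) s mj fj n hfj
      (fun i hi y => hV ⟨_, htr i hi y, rfl⟩) hf
  rw [Subring.closure_eq] at h1
  have h2 : IsIntegral S (algebraMap A K f) := h1
  let e : A₀ →+* S := ((algebraMap A K).comp A₀.val.toRingHom).codRestrict S fun x => ⟨x, x.2, rfl⟩
  have he : Function.Surjective e := fun x => by
    obtain ⟨y, hy, hyx⟩ := x.2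
    exact ⟨⟨y, hy⟩, Subtype.ext hyx⟩
  obtain ⟨p, hp, hpe⟩ := h2
  obtain ⟨p', hp', -, hp'm⟩ := Polynomial.lifts_and_degree_eq_and_monic
    ((Polynomial.lifts_iff_coeff_lifts _).2 fun m => he (p.coeff m)) hp
  refine (isIntegral_algebraMap_iff (B := K) (IsFractionRing.injective A K)).1 ⟨p', hp'm, ?_⟩
  rw [← hpe, ← hp', Polynomial.eval₂_map]
  congr 1

end Groth.L16.Grosshans
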