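import Groth.Agent.L16.Grosshans.Degrees
import Groth.Agent.L16.Grosshans.BiExist
import Groth.Agent.L16.Grosshans.Grading
import Groth.Agent.L16.Grosshans.Integral
import Groth.Agent.L01.NagataFiniteType
import Groth.Agent.L18.NormalizationField

/-!
# Invariants of the unipotent radical of a Borel subgroup
-/

set_option autoImplicit false
set_option backward.isDefEq.respectTransparency.types false
set_option linter.style.haveILetI false
set_option linter.unusedSectionVars false
set_option maxHeartbeats 1000000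

universe u

open CategoryTheory CategoryTheory.Limits MonoidalCategory CartesianMonoidalCategory MonObj GrpObj AlgebraicGeometry
open WithConv
open Groth.L25.Observable

noncomputable section

namespace Groth.L16.Grosshans

variable {k : Type u} [Field k] [IsAlgClosed k] {G Bo U T : Over (Spec (CommRingCat.of k))} [GrpObj G] [GrpObj Bo]
  [GrpObj U] [GrpObj T] [IsAffine G.left] [Smooth G.hom] [ConnectedSpace G.left] [IsAffine T.left]
  {A : Type u} [CommRing A] [HopfAlgebra k A] (ψ : G ⟶ Sp k A) [IsMonHom ψ] [IsIso ψ]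
  [_root_.IsReduced A] [Algebra.FiniteType k A] [IsDomain A] [IsIntegrallyClosed A]
  {M : Type} [CommGroup M] (ψT : T ⟶ Sp k (MonoidAlgebra k M)) [IsMonHom ψT] [IsIso ψT]
  [_root_.IsReduced (MonoidAlgebra k M)] [Algebra.FiniteType k (MonoidAlgebra k M)]
  (iB : Bo ⟶ G) (iT : T ⟶ Bo) [IsMonHom iT] [IsClosedImmersion (iT ≫ iB).left]
  (p : Bo ⟶ T) [IsMonHom p] (u : U ⟶ Bo) [IsMonHom u]

/-- functions invariant under a Borel subgroup are constant -/
theorem deg_one_le (hB : Red.IsBorelOver k iB) {f : A} (hf : f ∈ deg ψ iB (degFun ψT p) 1) :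
    f ∈ Set.range (algebraMap k A) := by
  have h1 : IsIntegral (⊥ : Subalgebra k A) f :=
    isIntegral_of_deg ψ iB (degFun ψT p) hB ⊥ (∅ : Finset M) id (fun _ => 0) (fun _ => 0) (by simp) (by simp)
      (by simpa using hf)
  haveI : Algebra.IsIntegral k (⊥ : Subalgebra k A) := ⟨fun x => by
    obtain ⟨c, hc⟩ := Algebra.mem_bot.1 x.2
    rw [show x = algebraMap k (⊥ : Subalgebra k A) c from Subtype.ext hc.symm]
    exact isIntegral_algebraMap⟩
  have h2 : IsIntegral k f := isIntegral_trans f h1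
  exact minpoly.mem_range_of_degree_eq_one k f
    (IsAlgClosed.degree_eq_one_of_irreducible k (minpoly.irreducible h2))

include ψT in
/-- The invariants of the unipotent radical are finitely generated. -/
theorem invSub_fg (hB : Red.IsBorelOver k iB) (hM : ∀ H : Subgroup M, H.FG) (hip : iT ≫ p = 𝟙 T)
    (hup : u ≫ p = 1) (hker : ∀ (y : VecGrp.pt k k ⟶ Bo), y ≫ p = 1 → ∃ y', y' ≫ u = y)
    {a₀ : A} (ha₀ : a₀ ≠ 0) {w : VecGrp.pt k k ⟶ G}
    (hcell : ∀ y : VecGrp.pt k k ⟶ G, (ev ψ y).ofConv a₀ ≠ 0 →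
      ∃ b' b : VecGrp.pt k k ⟶ Bo, y = (b' ≫ iB) * w * (b ≫ iB)) :
    (FinInv.invSub ψ (u ≫ iB)).FG := by
  classical
  haveI := hB.1; haveI := hB.2.1; haveI := hB.2.2.1; haveI := hB.2.2.2.1
  haveI : IsAffine Bo.left := isAffine_of_isAffineHom iB.left
  obtain ⟨F, hF, hFmem⟩ := exists_degree_generators ψ iB (degFun ψT p) hM ha₀ hcell
  choose! fj hfj using hF
  let R := FinInv.invSub ψ (u ≫ iB)
  -- the algebra of translates
  let V : Submodule k A := ⨆ m : F, Submodule.span k (Set.range fun y : VecGrp.pt k k ⟶ G => L (ev ψ y).ofConv (fj m))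
  have hVfg : V.FG := Submodule.fg_iSup _ fun m => by
    obtain ⟨U', hU', hU'mem⟩ := exists_finite_translates (k := k) (fj m)
    haveI := hU'
    exact Module.Finite.iff_fg.1 (Submodule.finiteDimensional_of_le
      (Submodule.span_le.2 (by rintro _ ⟨y, rfl⟩; exact hU'mem _)))
  obtain ⟨S, hS⟩ := hVfg
  let A₀ := Algebra.adjoin k (S : Set A)
  have hVA₀ : ∀ m ∈ F, ∀ y : VecGrp.pt k k ⟶ G, L (ev ψ y).ofConv (fj m) ∈ A₀ := fun m hm y =>
    Algebra.span_le_adjoin k _ (hS ▸ le_iSup (fun m : F => Submodule.span k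
      (Set.range fun y : VecGrp.pt k k ⟶ G => L (ev ψ y).ofConv (fj m))) ⟨m, hm⟩ (Submodule.subset_span ⟨y, rfl⟩))
  have hA₀R : A₀ ≤ R := by
    refine Algebra.adjoin_le fun x hx => ?_
    have h1 : V ≤ Subalgebra.toSubmodule R := iSup_le fun m => Submodule.span_le.2 (by
      rintro _ ⟨y, rfl⟩
      exact deg_le_inv ψ ψT iB p u hup (translate_mem_deg ψ iB _ (hfj m m.2).2.1 y))
    exact h1 (hS ▸ Submodule.subset_span hx)
  -- integrality
  have hint : ∀ f ∈ R, IsIntegral A₀ f := by
    intro f hf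
    obtain ⟨c, hc, rfl⟩ := exists_decomp ψ ψT iB iT p u hip hker hf
    refine IsIntegral.sum _ fun m _ => ?_
    by_cases h0 : c m = 0
    · rw [h0]; exact isIntegral_zero
    obtain ⟨f', hf'⟩ := exists_bi ψ iB (degFun ψT p) hB.2.2.2.2.1 h0 (hc m)
    obtain ⟨n, -, hn⟩ := Submonoid.mem_closure_finset.1 (hFmem m f' hf')
    refine isIntegral_of_deg ψ iB (degFun ψT p) hB A₀ F id fj n
      (fun m hm => ⟨(hfj m hm).1, (hfj m hm).2.1⟩) hVA₀ ?_
    rw [show (∏ i ∈ F, id i ^ n i) = m from hn]
    exact hc m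
  -- finiteness
  haveI : Algebra.FiniteType k A₀ := (Subalgebra.fg_iff_finiteType _).1 ⟨S, rfl⟩
  haveI : IsNoetherianRing A₀ := Algebra.FiniteType.isNoetherianRing k A₀
  haveI : Algebra.FiniteType A₀ A := Algebra.FiniteType.of_restrictScalars_finiteType k A₀ A
  haveI := Groth.L01.Nagata.finite_integralClosure_of_isNagata (S := A)
    (Groth.L01.Nagata.isNagata_of_finiteType (R := k) (S := A₀) (Groth.L18.NormField.isNagata_field k))
  letI : Algebra A₀ R := (Subalgebra.inclusion hA₀R).toRingHom.toAlgebra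
  haveI : IsScalarTower k A₀ R := IsScalarTower.of_algebraMap_eq fun c => rfl
  let e : R →ₗ[A₀] integralClosure A₀ A :=
    { toFun := fun t => ⟨t.1, hint t.1 t.2⟩
      map_add' := fun _ _ => rfl
      map_smul' := fun _ _ => rfl }
  haveI : Module.Finite A₀ R := Module.Finite.of_injective e fun s t h =>
    Subtype.ext (congrArg (fun z : integralClosure A₀ A => (z : A)) h)
  exact (Subalgebra.fg_iff_finiteType _).2 (Algebra.FiniteType.trans (S := A₀) inferInstance inferInstance)

/-- The functions of a given degree form a finite-dimensional space. -/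
theorem deg_fg (hB : Red.IsBorelOver k iB) (hip : iT ≫ p = 𝟙 T)
    (hup : u ≫ p = 1) (hker : ∀ (y : VecGrp.pt k k ⟶ Bo), y ≫ p = 1 → ∃ y', y' ≫ u = y)
    (hR : (FinInv.invSub ψ (u ≫ iB)).FG) (m : M) : (deg ψ iB (degFun ψT p) m).FG := by
  classical
  haveI := hB.1
  let R := FinInv.invSub ψ (u ≫ iB)
  haveI : Algebra.FiniteType k R := (Subalgebra.fg_iff_finiteType _).1 hR
  haveI : IsNoetherianRing R := Algebra.FiniteType.isNoetherianRing k R
  let D : Set R := {x | (x : A) ∈ deg ψ iB (degFun ψT p) m}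
  obtain ⟨s, hs, hspan⟩ := (Submodule.fg_span_iff_fg_span_finset_subset D).1 (IsNoetherian.noetherian (Submodule.span R D))
  refine ⟨s.image fun x : R => (x : A), le_antisymm (Submodule.span_le.2 fun x hx => ?_) fun f hf => ?_⟩
  · obtain ⟨y, hy, rfl⟩ := Finset.mem_image.1 (Finset.mem_coe.1 hx)
    exact hs hy
  have hfR : (⟨f, deg_le_inv ψ ψT iB p u hup hf⟩ : R) ∈ Submodule.span R (s : Set R) :=
    hspan ▸ Submodule.subset_span hf
  obtain ⟨r, -, hr⟩ := Submodule.mem_span_finset.1 hfR
  have hr' : ∑ g ∈ s, (r g : A) * (g : A) = f := by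
    have := congrArg (fun z : R => (z : A)) hr
    simpa using this
  choose c hc hcsum using fun g : R => exists_decomp ψ ψT iB iT p u hip hker (r g).2
  let D' : Finset M := insert 1 (s.biUnion fun g => (c g).support)
  let h : M → A := fun m' => (∑ g ∈ s, c g m' * (g : A)) - (if m' = 1 then f else 0)
  have hh : ∀ m', h m' ∈ deg ψ iB (degFun ψT p) (m' * m) := fun m' => by
    refine sub_mem (sum_mem fun g hg => mul_mem_deg ψ iB _ (hc g m') (hs hg)) ?_
    split_ifs with he
    · rw [he, _root_.one_mul]; exact hf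
    · exact zero_mem _
  have hsum : ∑ m' ∈ D', h m' = 0 := by
    rw [Finset.sum_sub_distrib, Finset.sum_comm, Finset.sum_ite_eq', if_pos (Finset.mem_insert_self _ _), sub_eq_zero]
    refine Eq.trans (Finset.sum_congr rfl fun g hg => ?_) hr'
    rw [← Finset.sum_mul, ← hcsum g]
    congr 1
    exact (Finset.sum_subset (fun z hz => Finset.mem_insert_of_mem (Finset.mem_biUnion.2 ⟨g, hg, hz⟩))
      fun z _ hz => Finsupp.notMem_support_iff.1 hz).symm
  have h1 : h 1 = 0 := by
    have := deg_independent ψ ψT iB iT p hip (D'.image (· * m)) (fun z => h (z * m⁻¹)) (fun z hz => by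
      obtain ⟨m', -, rfl⟩ := Finset.mem_image.1 hz
      rw [mul_inv_cancel_right]
      exact hh m') (by
      rw [Finset.sum_image fun x _ y _ e => mul_right_cancel e]
      simpa only [mul_inv_cancel_right] using hsum) (1 * m)
      (Finset.mem_image_of_mem _ (Finset.mem_insert_self _ _))
    simpa using this
  have h2 : f = ∑ g ∈ s, c g 1 * (g : A) := by
    have := sub_eq_zero.1 h1
    simpa using this.symm
  rw [h2]
  refine sum_mem fun g hg => ?_
  obtain ⟨a, ha⟩ := deg_one_le ψ ψT iB p hB (hc g 1)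
  rw [← ha, ← Algebra.smul_def]
  exact Submodule.smul_mem _ _ (Submodule.subset_span (Finset.mem_coe.2 (Finset.mem_image_of_mem _ hg)))

end Groth.L16.Grosshans
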