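import Groth.Agent.L16.Grosshans.Basic
import Groth.Agent.L01.NormalDomain
import Groth.Agent.S7119
import Mathlib.Order.WellQuasiOrder

/-!
# The degrees of semi-invariant functions form a finitely generated monoid
-/

set_option autoImplicit false
set_option backward.isDefEq.respectTransparency.types false
set_option linter.unusedSectionVars false

universe u w

open CategoryTheory MonObj AlgebraicGeometry
open Groth.L25.Observable WithConv

noncomputable section

namespace Groth.L16.Grosshans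

section Ring

variable {R : Type u} [CommRing R] [IsDomain R] [IsNoetherianRing R] [IsIntegrallyClosed R]

/-- Divisors supported in a given hypersurface are measured by finitely many orders. -/
theorem exists_orders {a₀ : R} (ha₀ : a₀ ≠ 0) :
    ∃ (ι' : Type u) (_ : Fintype ι') (N : R → ι' → ℕ), (∀ f g, f ≠ 0 → g ≠ 0 → N (f * g) = N f + N g) ∧
      ∀ f g, f ≠ 0 → g ≠ 0 → a₀ ∈ (Ideal.span {g}).radical → N g ≤ N f → g ∣ f := by
  let Z := (Ideal.span {a₀}).minimalPrimes
  haveI := (Ideal.finite_minimalPrimes_of_isNoetherianRing R (Ideal.span {a₀})).fintype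
  haveI hpr : ∀ p : Z, (p : Ideal R).IsPrime := fun p => p.2.1.1
  haveI : ∀ p : Z, IsDiscreteValuationRing (Localization.AtPrime (p : Ideal R)) := fun p =>
    Groth.Agent.S7119.isDVR_of_minimal ha₀ p.2
  let v : R → ∀ p : Z, ℕ∞ := fun f p =>
    IsDiscreteValuationRing.addVal (Localization.AtPrime (p : Ideal R))
      (algebraMap R (Localization.AtPrime (p : Ideal R)) f)
  have hfin : ∀ f, f ≠ 0 → ∀ p : Z, v f p ≠ ⊤ := fun f hf p h =>
    hf (IsLocalization.injective (Localization.AtPrime (p : Ideal R)) ((p : Ideal R).primeCompl_le_nonZeroDivisors)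
      ((IsDiscreteValuationRing.addVal_eq_top_iff.1 h).trans (map_zero _).symm))
  refine ⟨Z, inferInstance, fun f p => (v f p).toNat, fun f g hf hg => funext fun p => ?_,
    fun f g hf hg hrad hle => ?_⟩
  · show (v (f * g) p).toNat = (v f p).toNat + (v g p).toNat
    rw [← ENat.toNat_add (hfin f hf p) (hfin g hg p)]
    exact congrArg ENat.toNat (by simp only [v, map_mul, IsDiscreteValuationRing.addVal_mul])
  · refine Groth.Agent.S7119.dvd_of_forall_local fun q _ hq => ?_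
    have hqm := Groth.Agent.S7119.mem_minimalPrimes_of_ass hg hq
    have ha : a₀ ∈ q := Ideal.IsPrime.radical_le_iff inferInstance |>.2 hqm.1.2 hrad
    have hqZ : q ∈ Z :=
      Groth.Agent.S7119.mem_minimalPrimes ha₀ (Groth.Agent.S7119.height_eq_one hg hqm).le ha
    haveI := Groth.Agent.S7119.isDVR_of_minimal ha₀ hqZ
    refine IsDiscreteValuationRing.addVal_le_iff_dvd.1 (?_ : v g ⟨q, hqZ⟩ ≤ v f ⟨q, hqZ⟩)
    rw [← ENat.natCast_toNat (hfin g hg _), ← ENat.natCast_toNat (hfin f hf _), Nat.cast_le]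
    exact hle ⟨q, hqZ⟩

end Ring

variable {k : Type u} [Field k] {G Bo : Over (Spec (CommRingCat.of k))} [GrpObj G] [GrpObj Bo]
  {A : Type u} [CommRing A] [HopfAlgebra k A] (ψ : G ⟶ Sp k A) [IsMonHom ψ]
  (iB : Bo ⟶ G) {M : Type w} [CommGroup M] (Fm : M →* Γ(Bo.left, ⊤))
  [IsIso ψ] [IsAlgClosed k] [_root_.IsReduced A] [Algebra.FiniteType k A] [IsDomain A] [IsIntegrallyClosed A]

theorem Bi.inv_of_isUnit {m : M} {f : A} (hf : Bi ψ iB Fm m f) (hu : IsUnit f) :
    Bi ψ iB Fm m⁻¹ (↑hu.unit⁻¹ : A) := by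
  have h1 : Bi ψ iB Fm 1 (f * (↑hu.unit⁻¹ : A)) := by rw [IsUnit.mul_val_inv]; exact Bi.one ψ iB Fm
  have h2 := Bi.div ψ iB Fm h1 hf
  rwa [_root_.one_mul] at h2

/-- The degrees of functions semi-invariant on both sides form a finitely generated monoid. -/
theorem exists_degree_generators (hM : ∀ H : Subgroup M, H.FG) {a₀ : A} (ha₀ : a₀ ≠ 0)
    {w : VecGrp.pt k k ⟶ G}
    (hcell : ∀ y : VecGrp.pt k k ⟶ G, (ev ψ y).ofConv a₀ ≠ 0 →
      ∃ b' b : VecGrp.pt k k ⟶ Bo, y = (b' ≫ iB) * w * (b ≫ iB)) :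
    ∃ F : Finset M, (∀ m ∈ F, ∃ f : A, Bi ψ iB Fm m f) ∧
      ∀ (m : M) (f : A), Bi ψ iB Fm m f → m ∈ Submonoid.closure (F : Set M) := by
  classical
  haveI : IsNoetherianRing A := Algebra.FiniteType.isNoetherianRing k A
  obtain ⟨Z, _, N, hNadd, hNdvd⟩ := exists_orders ha₀
  have hrad : ∀ {m : M} {f : A}, Bi ψ iB Fm m f → a₀ ∈ (Ideal.span {f}).radical :=
    fun hf => mem_radical_of_cell ψ iB Fm ha₀ hcell hf
  have hN1 : N 1 = 0 := by
    have := hNadd 1 1 one_ne_zero one_ne_zero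
    rw [_root_.mul_one] at this
    exact (left_eq_add.1 this)
  -- degrees of units
  let H : Subgroup M :=
    { carrier := {m | ∃ f, Bi ψ iB Fm m f ∧ IsUnit f}
      mul_mem' := fun ⟨f, hf, hfu⟩ ⟨g, hg, hgu⟩ => ⟨f * g, Bi.mul ψ iB Fm hf hg, hfu.mul hgu⟩
      one_mem' := ⟨1, Bi.one ψ iB Fm, isUnit_one⟩
      inv_mem' := fun ⟨f, hf, hfu⟩ => ⟨_, Bi.inv_of_isUnit ψ iB Fm hf hfu, Units.isUnit _⟩ }
  obtain ⟨Su, hSu⟩ := hM H
  have hSuH : ∀ m ∈ Su, m ∈ H := fun m hm => hSu ▸ Subgroup.subset_closure (Finset.mem_coe.2 hm)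
  -- minimal nonzero orders
  let X : Set (Z → ℕ) := {x | x ≠ 0 ∧ ∃ m f, Bi ψ iB Fm m f ∧ N f = x}
  have hpwo : X.IsPWO := Set.isPWO_of_wellQuasiOrderedLE X
  have hminfin : {x | Minimal (· ∈ X) x}.Finite :=
    (setOfPred_minimal_antichain (· ∈ X)).finite_of_wellQuasiOrdered wellQuasiOrdered_le
  have hminX : ∀ x ∈ {x | Minimal (· ∈ X) x}, ∃ mf : M × A, Bi ψ iB Fm mf.1 mf.2 ∧ N mf.2 = x :=
    fun x hx => by obtain ⟨-, m, f, h1, h2⟩ := hx.prop; exact ⟨(m, f), h1, h2⟩
  choose! rep hrep using hminX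
  let F : Finset M := Su ∪ Su.image (·⁻¹) ∪ hminfin.toFinset.image (fun x => (rep x).1)
  refine ⟨F, fun m hm => ?_, ?_⟩
  · simp only [F, Finset.mem_union, Finset.mem_image] at hm
    rcases hm with (hm | ⟨m', hm', rfl⟩) | ⟨x, hx, rfl⟩
    · obtain ⟨f, hf, -⟩ := hSuH m hm; exact ⟨f, hf⟩
    · obtain ⟨f, hf, -⟩ := inv_mem (hSuH m' hm'); exact ⟨f, hf⟩
    · exact ⟨_, (hrep x (hminfin.mem_toFinset.1 hx)).1⟩
  have hunit : ∀ m ∈ H, m ∈ Submonoid.closure (F : Set M) := fun m hm => by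
    rw [← hSu, ← Subgroup.mem_toSubmonoid, Subgroup.closure_toSubmonoid] at hm
    refine Submonoid.closure_mono ?_ hm
    rintro y (hy | hy)
    · simp only [F, Finset.coe_union]; exact Or.inl (Or.inl hy)
    · simp only [F, Finset.coe_union, Finset.coe_image]
      exact Or.inl (Or.inr ⟨y⁻¹, hy, inv_inv y⟩)
  suffices key : ∀ (n : ℕ) (m : M) (f : A), Bi ψ iB Fm m f → ∑ z, N f z = n →
      m ∈ Submonoid.closure (F : Set M) from fun m f hf => key _ m f hf rfl
  intro n
  induction n using Nat.strong_induction_on with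
  | _ n ih =>
    intro m f hf hn
    by_cases hx : N f = 0
    · refine hunit m ⟨f, hf, isUnit_of_dvd_one (hNdvd 1 f one_ne_zero hf.1 (hrad hf) ?_)⟩
      rw [hx, hN1]
    · obtain ⟨x, hxle, hxmin⟩ := hpwo.exists_le_minimal (show N f ∈ X from ⟨hx, m, f, hf, rfl⟩)
      obtain ⟨hg, hgx⟩ := hrep x hxmin
      obtain ⟨h, rfl⟩ := hNdvd f (rep x).2 hf.1 hg.1 (hrad hg) (hgx.trans_le hxle)
      have hh := Bi.div ψ iB Fm hf hg
      have hlt : ∑ z, N h z < n := by
        rw [← hn, hNadd _ _ hg.1 hh.1, hgx]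
        simp only [Pi.add_apply, Finset.sum_add_distrib]
        have hpos : 0 < ∑ z, x z := by
          by_contra h0
          push Not at h0
          refine hxmin.prop.1 (funext fun z => ?_)
          exact (Finset.sum_eq_zero_iff.1 (Nat.le_zero.1 h0)) z (Finset.mem_univ z)
        omega
      have h1 := ih _ hlt _ h hh rfl
      have h2 : (rep x).1 ∈ Submonoid.closure (F : Set M) := Submonoid.subset_closure (by
        simp only [F, Finset.coe_union, Finset.coe_image]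
        exact Or.inr ⟨x, hminfin.mem_toFinset.2 hxmin, rfl⟩)
      have := mul_mem h1 h2
      rwa [inv_mul_cancel_right] at this

end Groth.L16.Grosshans
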