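import Groth.Agent.L16.Grosshans.Main
import Groth.Agent.L14.Luna.Radical
import Groth.Agent.L14.Luna.Cor

/-!
# Maximal unipotent subgroups
-/

set_option autoImplicit false
set_option backward.isDefEq.respectTransparency.types false
set_option linter.style.haveILetI false
set_option linter.unusedSectionVars false
set_option maxHeartbeats 1000000

universe u

open CategoryTheory CategoryTheory.Limits MonoidalCategory CartesianMonoidalCategory MonObj GrpObj AlgebraicGeometry
open Groth.L25.Observable

noncomputable section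

namespace Groth.L16.Grosshans

variable {k : Type u} [Field k] [IsAlgClosed k]

/-- A surjective endomorphism of a Noetherian ring is injective. -/
theorem bijective_of_surjective {R : Type u} [CommRing R] [IsNoetherianRing R] (e : R →+* R)
    (he : Function.Surjective e) : Function.Bijective e := by
  refine ⟨(injective_iff_map_eq_zero e).2 fun x hx => ?_, he⟩
  obtain ⟨n, hn⟩ := monotone_stabilizes_iff_noetherian.2 (inferInstance : IsNoetherian R R)
    ⟨fun n => RingHom.ker (e ^ n), monotone_nat_of_le_succ fun n y hy => by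
      rw [RingHom.mem_ker, pow_succ', RingHom.coe_mul, Function.comp_apply, RingHom.mem_ker.1 hy, map_zero]⟩
  obtain ⟨y, hy⟩ : ∃ y, (e ^ n) y = x := by
    suffices hs : Function.Surjective (e ^ n : R →+* R) from hs x
    clear hn
    induction n with
    | zero => exact fun z => ⟨z, rfl⟩
    | succ n ih => rw [pow_succ', RingHom.coe_mul]; exact he.comp ih
  have h1 : y ∈ RingHom.ker (e ^ (n + 1)) := by
    rw [RingHom.mem_ker, pow_succ', RingHom.coe_mul, Function.comp_apply, hy, hx]
  rw [show RingHom.ker (e ^ (n + 1)) = RingHom.ker (e ^ n) from (hn (n + 1) (Nat.le_succ n)).symm,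
    RingHom.mem_ker, hy] at h1
  exact h1

/-- A closed immersion of an affine algebraic scheme into itself is an isomorphism. -/
theorem isIso_of_endo {X : Over (Spec (CommRingCat.of k))} [IsAffine X.left] [LocallyOfFiniteType X.hom]
    (e : X ⟶ X) [IsClosedImmersion e.left] : IsIso e := by
  haveI : IsLocallyNoetherian X.left := LocallyOfFiniteType.isLocallyNoetherian X.hom
  haveI : IsNoetherianRing Γ(X.left, ⊤) :=
    IsLocallyNoetherian.component_noetherian ⟨⊤, isAffineOpen_top X.left⟩
  have hsurj : Function.Surjective e.left.appTop :=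
    (isClosedImmersion_iff_isAffineHom.1 ‹IsClosedImmersion e.left›).2 ⊤ (isAffineOpen_top _)
  haveI : IsIso e.left.appTop :=
    (ConcreteCategory.isIso_iff_bijective e.left.appTop).2 (bijective_of_surjective e.left.appTop.hom hsurj)
  haveI : IsIso e.left := by
    haveI : IsIso (e.left ≫ X.left.isoSpec.hom) := by
      rw [← Scheme.isoSpec_hom_naturality e.left]; infer_instance
    exact IsIso.of_isIso_comp_right e.left X.left.isoSpec.hom
  haveI : IsIso ((Over.forget _).map e) := ‹IsIso e.left›
  exact isIso_of_reflects_iso e (Over.forget _)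

/-- A connected group without subtori inside a connected solvable group lies in the unipotent radical. -/
theorem exists_fac_radical {Bo U N : Over (Spec (CommRingCat.of k))} [GrpObj Bo] [GrpObj U] [GrpObj N]
    [IsAffine Bo.left] [Smooth Bo.hom] [ConnectedSpace Bo.left] (hsol : Red.IsSolvableGrp Bo) {u : U ⟶ Bo}
    (hU : Par.IsUnipotentRadical u) [IsAffine N.left] [Smooth N.hom] [ConnectedSpace N.left]
    (hN : Red.HasNoSubtorus k N) (n : N ⟶ Bo) [IsMonHom n] : ∃ y : N ⟶ U, y ≫ u = n := by
  obtain ⟨T, gT, iT, p, V, gV, v, hm, hmono, hT, hp, hip, hV, hvp, hker⟩ :=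
    Groth.L14.Luna.exists_retraction_radical Bo hsol
  haveI := hm; haveI := hp
  obtain ⟨hv1, hv2, hv3, hv4, hv5, hv6, -⟩ := hV
  haveI := hv1
  obtain ⟨-, -, -, -, -, -, hu7⟩ := hU
  obtain ⟨g, hg⟩ := hu7 V v hv2 hv3 hv4 hv5 hv6
  obtain ⟨y, hy⟩ := hker N n (Groth.L14.Luna.hom_torus_eq_one (Groth.L14.Luna.isSolvableGrp_of_noSubtorus N hN) hN hT (n ≫ p))
  exact ⟨y ≫ g, by rw [Category.assoc, hg, hy]⟩

/-- A Borel subgroup containing a maximal unipotent subgroup has it as its unipotent radical, on rational points. -/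
theorem exists_radical_eq {G Bo U B' : Over (Spec (CommRingCat.of k))} [GrpObj G] [GrpObj Bo] [GrpObj U] [GrpObj B']
    [IsAffine G.left] [Smooth G.hom] [ConnectedSpace G.left] {iB : Bo ⟶ G} (hB : Red.IsBorelOver k iB)
    {u : U ⟶ Bo} (hU : Par.IsUnipotentRadical u) {b' : B' ⟶ G} (hB' : Red.IsBorelOver k b')
    (f : U ⟶ B') (hf : f ≫ b' = u ≫ iB) :
    ∃ (U' : Over (Spec (CommRingCat.of k))) (_ : GrpObj U') (v : U' ⟶ B'), Par.IsUnipotentRadical v ∧
      (∀ z : VecGrp.pt k k ⟶ U, ∃ z', z' ≫ v ≫ b' = z ≫ u ≫ iB) ∧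
      ∀ z' : VecGrp.pt k k ⟶ U', ∃ z, z ≫ u ≫ iB = z' ≫ v ≫ b' := by
  haveI := hB.1; haveI := hB.2.1; haveI := hB.2.2.1; haveI := hB.2.2.2.1
  haveI := hB'.1; haveI := hB'.2.1; haveI := hB'.2.2.1; haveI := hB'.2.2.2.1
  haveI := hU.1; haveI := hU.2.1; haveI := hU.2.2.2.1
  haveI : LocallyOfFiniteType G.hom := inferInstance
  haveI : IsAffine Bo.left := isAffine_of_isAffineHom iB.left
  haveI : IsAffine B'.left := isAffine_of_isAffineHom b'.left
  haveI : IsAffine U.left := isAffine_of_isAffineHom u.left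
  haveI : Mono iB := Groth.L08.mono_of_closedImmersion iB
  haveI : Mono b' := Groth.L08.mono_of_closedImmersion b'
  haveI : Mono u := Groth.L08.mono_of_closedImmersion u
  haveI := (radical_props hU).1
  haveI : IsMonHom f := Groth.L08.Borel.isMonHom_of_comp_mono f b' (u ≫ iB) hf
  obtain ⟨T', gT', iT', p', U', gU', v, hm, hmono, hT', hp', hip, hv, hvp, hker⟩ :=
    Groth.L14.Luna.exists_retraction_radical B' hB'.2.2.2.2.1
  haveI := hv.1; haveI := hv.2.1; haveI := hv.2.2.2.1
  haveI : IsAffine U'.left := isAffine_of_isAffineHom v.left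
  haveI := (radical_props hv).1
  haveI : Mono v := Groth.L08.mono_of_closedImmersion v
  obtain ⟨j, hj⟩ := exists_fac_radical hB'.2.2.2.2.1 hv (radical_props hU).2 f
  obtain ⟨g, φ, hφ⟩ := Groth.L08.Borel.exists_borel_conj hB' hB
  haveI : IsMonHom (AGF.conjBy g b') := Groth.L08.Borel.isMonHom_conjBy _ _
  haveI : IsMonHom φ.hom := Groth.L08.Borel.isMonHom_of_comp_mono φ.hom iB (AGF.conjBy g b') hφ
  obtain ⟨k', hk'⟩ := exists_fac_radical hB.2.2.2.2.1 hU (radical_props hv).2 (v ≫ φ.hom)
  haveI : IsClosedImmersion (j ≫ v ≫ b').left := by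
    rw [← Category.assoc j, hj, hf]; exact inferInstanceAs (IsClosedImmersion (u.left ≫ iB.left))
  haveI : IsClosedImmersion j.left := by
    haveI : IsClosedImmersion (j.left ≫ (v.left ≫ b'.left)) := ‹IsClosedImmersion (j ≫ v ≫ b').left›
    exact IsClosedImmersion.of_comp j.left (v.left ≫ b'.left)
  haveI : IsIso φ.hom.left := inferInstanceAs (IsIso ((Over.forget _).map φ.hom))
  haveI : IsClosedImmersion k'.left := by
    haveI : IsClosedImmersion (k'.left ≫ u.left) := by
      rw [← Over.comp_left, hk']; exact inferInstanceAs (IsClosedImmersion (v.left ≫ φ.hom.left))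
    exact IsClosedImmersion.of_comp k'.left u.left
  haveI : IsClosedImmersion (j ≫ k').left := inferInstanceAs (IsClosedImmersion (j.left ≫ k'.left))
  haveI : LocallyOfFiniteType U.hom := inferInstance
  haveI := isIso_of_endo (j ≫ k')
  haveI : Mono k' := by
    haveI : Mono (k' ≫ u) := by rw [hk']; exact mono_comp _ _
    exact mono_of_mono k' u
  refine ⟨U', gU', v, hv, fun z => ⟨z ≫ j, by rw [Category.assoc, ← Category.assoc j, hj, hf]⟩, fun z' =>
    ⟨(z' ≫ k') ≫ inv (j ≫ k'), ?_⟩⟩
  have e : ((z' ≫ k') ≫ inv (j ≫ k')) ≫ j = z' := (cancel_mono k').1 (by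
    rw [Category.assoc, Category.assoc, IsIso.inv_hom_id, Category.comp_id])
  conv_rhs => rw [← e]
  rw [Category.assoc _ j, ← Category.assoc j, hj, hf]

end Groth.L16.Grosshans
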