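import Groth.Agent.L16.Grosshans.Main
import Groth.Agent.L16.Grosshans.Radical
import Mathlib.RingTheory.MvPolynomial.Basic
import Mathlib.GroupTheory.Finiteness

/-!
# Subgroups containing a maximal unipotent subgroup
-/

set_option autoImplicit false
set_option backward.isDefEq.respectTransparency.types false
set_option linter.style.haveILetI false
set_option linter.unusedSectionVars false
set_option maxHeartbeats 1000000

universe u

open CategoryTheory CategoryTheory.Limits MonoidalCategory CartesianMonoidalCategory MonObj GrpObj AlgebraicGeometry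
open WithConv
open Groth.L25.Observable

noncomputable section

namespace Groth.L16.Grosshans

variable {k : Type u} [Field k] [IsAlgClosed k]

/-- Functions invariant under a Borel subgroup on a connected group are constant. -/
theorem mem_range_of_borel_inv {H B : Over (Spec (CommRingCat.of k))} [GrpObj H] [GrpObj B] [IsAffine H.left]
    [Smooth H.hom] [ConnectedSpace H.left] {A : Type u} [CommRing A] [HopfAlgebra k A] (ψ : H ⟶ Sp k A)
    [IsMonHom ψ] [IsIso ψ] [_root_.IsReduced A] [Algebra.FiniteType k A] {iB : B ⟶ H}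
    (hB : Red.IsBorelOver k iB) {f : A} (hf : f ∈ FinInv.invSub ψ iB) : f ∈ Set.range (algebraMap k A) := by
  haveI : IsDomain A := isDomain ψ
  let Fm : Multiplicative (Fin 0 → ℤ) →* Γ(B.left, ⊤) := 1
  have hdeg : f ∈ deg ψ iB Fm 1 := fun x b => by rw [chr_one, _root_.one_mul]; exact hf x b
  have h1 : IsIntegral (⊥ : Subalgebra k A) f :=
    isIntegral_of_deg ψ iB Fm hB ⊥ (∅ : Finset (Multiplicative (Fin 0 → ℤ))) id (fun _ => 0) (fun _ => 0)
      (by simp) (by simp) (by simpa using hdeg)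
  haveI : Algebra.IsIntegral k (⊥ : Subalgebra k A) := ⟨fun x => by
    obtain ⟨c, hc⟩ := Algebra.mem_bot.1 x.2
    rw [show x = algebraMap k (⊥ : Subalgebra k A) c from Subtype.ext hc.symm]
    exact isIntegral_algebraMap⟩
  exact minpoly.mem_range_of_degree_eq_one k f
    (IsAlgClosed.degree_eq_one_of_irreducible k (minpoly.irreducible (isIntegral_trans f h1)))

/-- Invariants under a Borel subgroup of a connected closed subgroup are invariants under the subgroup. -/
theorem invSub_borel_eq {G H B : Over (Spec (CommRingCat.of k))} [GrpObj G] [GrpObj H] [GrpObj B]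
    [IsAffine G.left] [Smooth G.hom] [Smooth H.hom] [ConnectedSpace H.left] {A : Type u} [CommRing A]
    [HopfAlgebra k A] (ψ : G ⟶ Sp k A) [IsMonHom ψ] [IsIso ψ] (i : H ⟶ G) [IsMonHom i] [IsClosedImmersion i.left]
    {iB : B ⟶ H} (hB : Red.IsBorelOver k iB) : FinInv.invSub ψ (iB ≫ i) = FinInv.invSub ψ i := by
  haveI : IsAffine H.left := isAffine_of_isAffineHom i.left
  obtain ⟨A', _, _, θ, h1, h2, h3, h4⟩ := exists_chart H
  haveI := h1; haveI := h2; haveI := h3; haveI := h4
  obtain ⟨π, -, hπ⟩ := exists_res ψ θ i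
  refine le_antisymm (fun f hf x h => ?_) fun f hf x b => by rw [← Category.assoc]; exact hf x (b ≫ iB)
  have hinv : π (L (ev ψ x).ofConv f) ∈ FinInv.invSub θ iB := fun y b => by
    rw [hπ, hπ, apply_L_pt, apply_L_pt, ← ev_mul, ← ev_mul, MonObj.mul_comp, Category.assoc, ← _root_.mul_assoc]
    exact hf _ b
  obtain ⟨c, hc⟩ := mem_range_of_borel_inv θ hB hinv
  have key : ∀ γ : VecGrp.pt k k ⟶ H, (ev ψ (x * (γ ≫ i))).ofConv f = c := fun γ => by
    have := hπ γ (L (ev ψ x).ofConv f)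
    rw [← hc, AlgHom.commutes, apply_L_pt, ← ev_mul] at this
    exact this.symm
  have h1' := key 1
  rw [MonObj.one_comp, _root_.mul_one] at h1'
  rw [key h, h1']

section Graded

variable {G Bo U T H : Over (Spec (CommRingCat.of k))} [GrpObj G] [GrpObj Bo] [GrpObj U] [GrpObj T] [GrpObj H]
  [IsAffine G.left] [Smooth G.hom] [IsAffine T.left]
  {A : Type u} [CommRing A] [HopfAlgebra k A] (ψ : G ⟶ Sp k A) [IsMonHom ψ] [IsIso ψ]
  [_root_.IsReduced A] [Algebra.FiniteType k A]
  {M : Type} [CommGroup M] (ψT : T ⟶ Sp k (MonoidAlgebra k M)) [IsMonHom ψT] [IsIso ψT]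
  [_root_.IsReduced (MonoidAlgebra k M)] [Algebra.FiniteType k (MonoidAlgebra k M)]
  (iB : Bo ⟶ G) [IsMonHom iB] (iT : T ⟶ Bo) [IsMonHom iT] [IsClosedImmersion (iT ≫ iB).left]
  (p : Bo ⟶ T) [IsMonHom p] (u : U ⟶ Bo) [IsMonHom u]

include ψT in
/-- Finite generation passes from the radical to subgroups of the Borel subgroup containing it. -/
theorem invSub_fg_between (hip : iT ≫ p = 𝟙 T)
    (hker : ∀ (y : VecGrp.pt k k ⟶ Bo), y ≫ p = 1 → ∃ y', y' ≫ u = y)
    (hR : (FinInv.invSub ψ (u ≫ iB)).FG) (c : H ⟶ Bo)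
    (hUH : ∀ h : VecGrp.pt k k ⟶ U, ∃ z : VecGrp.pt k k ⟶ H, z ≫ c ≫ iB = h ≫ u ≫ iB) :
    (FinInv.invSub ψ (c ≫ iB)).FG := by
  classical
  obtain ⟨s, hs⟩ := hR
  let R' := FinInv.invSub ψ (c ≫ iB)
  let K : Subgroup M :=
    { carrier := {m | ∀ z : VecGrp.pt k k ⟶ H, chr (degFun ψT p) m (z ≫ c) = 1}
      mul_mem' := fun ha hb z => by rw [chr_mul, ha, hb, _root_.mul_one]
      one_mem' := fun z => chr_one _ _
      inv_mem' := fun ha z => by rw [chr_inv, ha, inv_one] }
  have hKR : ∀ m ∈ K, ∀ f ∈ deg ψ iB (degFun ψT p) m, f ∈ R' := fun m hm f hf x z => by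
    rw [← Category.assoc, hf, hm z, _root_.one_mul]
  have hvanish : ∀ (S : Finset M) (a : M → A), (∀ m ∈ S, a m ∈ deg ψ iB (degFun ψT p) m) →
      ∑ m ∈ S, a m ∈ R' → ∀ m ∈ S, m ∉ K → a m = 0 := by
    intro S a ha hsum m hm hmK
    obtain ⟨z, hz⟩ : ∃ z : VecGrp.pt k k ⟶ H, chr (degFun ψT p) m (z ≫ c) ≠ 1 := by
      by_contra h
      push Not at h
      exact hmK h
    have h0 : ∑ m ∈ S, (chr (degFun ψT p) m (z ≫ c) - 1) • a m = 0 := eq_of_forall_ev ψ fun x => by
      have h := hsum x z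
      rw [map_sum, map_sum] at h
      rw [map_zero, map_sum]
      simp only [map_smul, smul_eq_mul, sub_mul, _root_.one_mul, Finset.sum_sub_distrib]
      rw [sub_eq_zero, ← h]
      refine Finset.sum_congr rfl fun m hm => ?_
      rw [← Category.assoc, ha m hm]
    have h1 := deg_independent ψ ψT iB iT p hip S _ (fun m hm => Submodule.smul_mem _ _ (ha m hm)) h0 m hm
    exact (smul_eq_zero.1 h1).resolve_left (sub_ne_zero.2 hz)
  -- homogeneous generators
  have hdec : ∀ g ∈ s, ∃ d : M →₀ A, (∀ m, d m ∈ deg ψ iB (degFun ψT p) m) ∧ d.sum (fun _ a => a) = g :=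
    fun g hg => exists_decomp ψ ψT iB iT p u hip hker (hs ▸ Algebra.subset_adjoin (Finset.mem_coe.2 hg))
  choose! d hd hdsum using hdec
  let Jset : Finset (A × M) := s.biUnion fun g => (d g).support.image fun m => (d g m, m)
  have hJ : ∀ q ∈ Jset, q.1 ∈ deg ψ iB (degFun ψT p) q.2 := by
    intro q hq
    simp only [Jset, Finset.mem_biUnion, Finset.mem_image] at hq
    obtain ⟨g, hg, m, -, rfl⟩ := hq
    exact hd g hg m
  let val₁ : Jset → A := fun q => q.1.1
  let dg : (Jset → ℕ) → M := fun e => ∏ q : Jset, q.1.2 ^ e q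
  let mono : (Jset → ℕ) → A := fun e => ∏ q : Jset, val₁ q ^ e q
  have hmono : ∀ e, mono e ∈ deg ψ iB (degFun ψT p) (dg e) := fun e =>
    prod_mem_deg ψ iB _ _ fun q _ => pow_mem_deg ψ iB _ (hJ q.1 q.2) _
  have hdg : ∀ e e', dg (e + e') = dg e * dg e' := fun e e' => by
    simp only [dg, Pi.add_apply, pow_add, Finset.prod_mul_distrib]
  have hmono_add : ∀ e e', mono (e + e') = mono e * mono e' := fun e e' => by
    simp only [mono, Pi.add_apply, pow_add, Finset.prod_mul_distrib]
  let E : AddSubmonoid (Jset → ℕ) :=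
    { carrier := {e | dg e ∈ K}
      add_mem' := fun {a b} ha hb => by show dg (a + b) ∈ K; rw [hdg]; exact mul_mem ha hb
      zero_mem' := by show dg 0 ∈ K; simp only [dg, Pi.zero_apply, pow_zero, Finset.prod_const_one]; exact one_mem K }
  obtain ⟨Eg, hEg⟩ := AddSubmonoid.fg_of_subtractive (P := E) fun x hx y hxy => by
    have h : dg (x + y) ∈ K := hxy
    rw [hdg] at h
    exact (mul_mem_cancel_left (show dg x ∈ K from hx)).1 h
  refine ⟨Eg.image mono, le_antisymm (Algebra.adjoin_le fun a ha => ?_) fun f hf => ?_⟩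
  · obtain ⟨e, he, rfl⟩ := Finset.mem_image.1 (Finset.mem_coe.1 ha)
    have : e ∈ E := hEg ▸ AddSubmonoid.subset_closure (Finset.mem_coe.2 he)
    exact hKR _ this _ (hmono e)
  have hmonoE : ∀ e ∈ E, mono e ∈ Algebra.adjoin k ((Eg.image mono : Finset A) : Set A) := fun e he => by
    rw [← hEg] at he
    induction he using AddSubmonoid.closure_induction with
    | mem e he => exact Algebra.subset_adjoin (Finset.mem_coe.2 (Finset.mem_image_of_mem _ he))
    | zero => simp only [mono, Pi.zero_apply, pow_zero, Finset.prod_const_one]; exact one_mem _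
    | add e e' _ _ he he' => rw [hmono_add]; exact mul_mem he he'
  have hfU : f ∈ FinInv.invSub ψ (u ≫ iB) := fun x h => by
    obtain ⟨z, hz⟩ := hUH h
    rw [← hz]; exact hf x z
  obtain ⟨P, hP⟩ : ∃ P : MvPolynomial Jset k, MvPolynomial.aeval val₁ P = f := by
    have h1 : FinInv.invSub ψ (u ≫ iB) ≤ Algebra.adjoin k (Set.range val₁) := by
      rw [← hs]
      refine Algebra.adjoin_le fun g hg => ?_
      rw [SetLike.mem_coe, ← hdsum g hg]
      refine sum_mem fun m hm => Algebra.subset_adjoin ⟨⟨(d g m, m), ?_⟩, rfl⟩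
      exact Finset.mem_biUnion.2 ⟨g, hg, Finset.mem_image.2 ⟨m, hm, rfl⟩⟩
    have h2 := h1 hfU
    rwa [Algebra.adjoin_range_eq_range_aeval] at h2
  let S : Finset M := P.support.image fun e : Jset →₀ ℕ => dg ⇑e
  let a : M → A := fun m => ∑ e ∈ P.support.filter (fun e : Jset →₀ ℕ => dg ⇑e = m), P.coeff e • mono ⇑e
  have hfa : ∑ m ∈ S, a m = f := by
    refine (Finset.sum_fiberwise_of_maps_to (g := fun e : Jset →₀ ℕ => dg ⇑e)
      (s := P.support) (t := S)
      (fun e he => Finset.mem_image_of_mem (fun e : Jset →₀ ℕ => dg ⇑e) he) (fun e : Jset →₀ ℕ => MvPolynomial.coeff e P • mono ⇑e)).trans ?_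
    rw [← hP, MvPolynomial.aeval_def, MvPolynomial.eval₂_eq']
    exact Finset.sum_congr rfl fun e _ => Algebra.smul_def _ _
  have ha : ∀ m ∈ S, a m ∈ deg ψ iB (degFun ψT p) m := fun m _ =>
    sum_mem fun e he => Submodule.smul_mem _ _ ((Finset.mem_filter.1 he).2 ▸ hmono _)
  have hz := hvanish S a ha (hfa ▸ hf)
  rw [← hfa]
  refine sum_mem fun m hm => ?_
  by_cases hmK : m ∈ K
  · exact sum_mem fun e he => Subalgebra.smul_mem _
      (hmonoE _ (show dg ⇑e ∈ K from (Finset.mem_filter.1 he).2 ▸ hmK)) _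
  · rw [hz m hm hmK]; exact zero_mem _

end Graded

/-- Invariants of a connected subgroup containing a maximal unipotent subgroup are finitely generated. -/
theorem invSub_fg_over {G Bo U H : Over (Spec (CommRingCat.of k))} [GrpObj G] [GrpObj Bo] [GrpObj U] [GrpObj H]
    [IsAffine G.left] [Smooth G.hom] [ConnectedSpace G.left] {A : Type u} [CommRing A] [HopfAlgebra k A]
    (ψ : G ⟶ Sp k A) [IsMonHom ψ] [IsIso ψ] [_root_.IsReduced A] [Algebra.FiniteType k A]
    [Smooth H.hom] [ConnectedSpace H.left] (i : H ⟶ G) [IsMonHom i] [IsClosedImmersion i.left]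
    {iB : Bo ⟶ G} (hB : Red.IsBorelOver k iB) {u : U ⟶ Bo} (hU : Par.IsUnipotentRadical u)
    (f : U ⟶ H) (hf : f ≫ i = u ≫ iB) : (FinInv.invSub ψ i).FG := by
  haveI := hB.1; haveI := hB.2.1; haveI := hB.2.2.1; haveI := hB.2.2.2.1
  haveI := hU.1; haveI := hU.2.1; haveI := hU.2.2.2.1
  haveI : LocallyOfFiniteType G.hom := inferInstance
  haveI : QuasiCompact G.hom := quasiCompact_of_compactSpace _
  haveI : IsAffine Bo.left := isAffine_of_isAffineHom iB.left
  haveI : IsAffine U.left := isAffine_of_isAffineHom u.left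
  haveI : IsAffine H.left := isAffine_of_isAffineHom i.left
  haveI : QuasiCompact H.hom := quasiCompact_of_compactSpace _
  haveI : Mono i := Groth.L08.mono_of_closedImmersion i
  haveI := (radical_props hU).1
  haveI : IsMonHom f := Groth.L08.Borel.isMonHom_of_comp_mono f i (u ≫ iB) hf
  haveI : IsClosedImmersion f.left := by
    haveI : IsClosedImmersion (f.left ≫ i.left) := by
      rw [← Over.comp_left, hf]; exact inferInstanceAs (IsClosedImmersion (u.left ≫ iB.left))
    exact IsClosedImmersion.of_comp f.left i.left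
  obtain ⟨BH, _, iBH, hBH, fH, hfH⟩ :=
    Groth.L08.Borel.exists_borel_ge f (Groth.L14.Luna.isSolvableGrp_of_noSubtorus U (radical_props hU).2)
  haveI := hBH.1; haveI := hBH.2.1; haveI := hBH.2.2.1; haveI := hBH.2.2.2.1
  haveI : IsClosedImmersion (iBH ≫ i).left := inferInstanceAs (IsClosedImmersion (iBH.left ≫ i.left))
  obtain ⟨B', _, b', hB', c, hc⟩ := Groth.L08.Borel.exists_borel_ge (iBH ≫ i) hBH.2.2.2.2.1
  haveI := hB'.1; haveI := hB'.2.1; haveI := hB'.2.2.1; haveI := hB'.2.2.2.1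
  haveI : IsAffine B'.left := isAffine_of_isAffineHom b'.left
  have hfc : (fH ≫ c) ≫ b' = u ≫ iB := by rw [Category.assoc, hc, ← Category.assoc, hfH, hf]
  obtain ⟨U', _, v, hv, hUU', hU'U⟩ := exists_radical_eq hB hU hB' (fH ≫ c) hfc
  haveI := hv.1
  obtain ⟨n, T, _, ψT, iT, p, hTa, h1, h2, h3, h4, -, h6, h7, h8, hip, hup, hker⟩ :=
    exists_torus_data hB'.2.2.2.2.1 hv
  haveI := hTa; haveI := h1; haveI := h2; haveI := h3; haveI := h4; haveI := h6; haveI := h7; haveI := h8
  haveI : IsClosedImmersion (iT ≫ b').left := inferInstanceAs (IsClosedImmersion (iT.left ≫ b'.left))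
  have key := invSub_fg_between ψ ψT b' iT p v hip hker (invSub_fg_connected ψ hB' hv) c fun h => by
    obtain ⟨z, hz⟩ := hU'U h
    exact ⟨z ≫ fH, by rw [← hz, Category.assoc z, hc, ← Category.assoc fH, hfH, hf]⟩
  rwa [hc, invSub_borel_eq ψ i hBH] at key

/-- Invariants of a closed subgroup containing a maximal unipotent subgroup are finitely generated. -/
theorem subringFG_over {G Bo U H : Over (Spec (CommRingCat.of k))} [GrpObj G] [GrpObj Bo] [GrpObj U] [GrpObj H]
    [IsAffine G.left] [Smooth G.hom] [Smooth H.hom] (i : H ⟶ G) [IsMonHom i] [IsClosedImmersion i.left]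
    {iB : Bo ⟶ G} (hB : Red.IsBorelOver k iB) {u : U ⟶ Bo} (hU : Par.IsUnipotentRadical u)
    (f : U ⟶ H) (hf : f ≫ i = u ≫ iB) : AGF.SubringFGOver k G (AGF.rTransInv i) := by
  haveI := hB.1; haveI := hB.2.1; haveI := hB.2.2.1; haveI := hB.2.2.2.1; haveI := hU.1; haveI := hU.2.1
  haveI := hU.2.2.2.1; haveI := (radical_props hU).1
  haveI : IsAffine H.left := isAffine_of_isAffineHom i.left
  haveI : LocallyOfFiniteType H.hom := inferInstance
  haveI : Mono i := Groth.L08.mono_of_closedImmersion i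
  haveI : IsMonHom f := Groth.L08.Borel.isMonHom_of_comp_mono f i (u ≫ iB) hf
  obtain ⟨G₀, _, j, hj⟩ := Groth.L08.Chev.exists_idComp G
  haveI := hj.hom; haveI := hj.closedImm; haveI := hj.openImm; haveI := hj.smooth; haveI := hj.connectedSpace
  haveI := hj.isAffine
  haveI : Mono j := Groth.L08.mono_of_closedImmersion j
  obtain ⟨H₀, _, a, ha⟩ := Groth.L08.Chev.exists_idComp H
  haveI := ha.hom; haveI := ha.closedImm; haveI := ha.openImm; haveI := ha.smooth; haveI := ha.connectedSpace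
  haveI := ha.isAffine
  haveI : Mono a := Groth.L08.mono_of_closedImmersion a
  obtain ⟨f₀, hf₀⟩ := ha.exists_lift_hom f
  obtain ⟨i₀, hi₀⟩ := hj.exists_lift_hom (a ≫ i)
  obtain ⟨b₀, hb₀⟩ := hj.exists_lift_hom iB
  haveI : IsMonHom i₀ := Groth.L08.Borel.isMonHom_of_comp_mono i₀ j (a ≫ i) hi₀
  haveI : IsClosedImmersion i₀.left := by
    haveI : IsClosedImmersion (i₀.left ≫ j.left) := by
      rw [← Over.comp_left, hi₀]; exact inferInstanceAs (IsClosedImmersion (a.left ≫ i.left))
    exact IsClosedImmersion.of_comp i₀.left j.left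
  haveI : IsMonHom b₀ := Groth.L08.Borel.isMonHom_of_comp_mono b₀ j iB hb₀
  have hB₀ : Red.IsBorelOver k b₀ := by
    refine ⟨inferInstance, ?_, inferInstance, inferInstance, hB.2.2.2.2.1, fun B' _ i' _ g hc hs hcon hsol hgi => ?_⟩
    · haveI : IsClosedImmersion (b₀.left ≫ j.left) := by rw [← Over.comp_left, hb₀]; infer_instance
      exact IsClosedImmersion.of_comp b₀.left j.left
    · haveI := hc
      exact hB.2.2.2.2.2 B' (i' ≫ j) g (inferInstanceAs (IsClosedImmersion (i'.left ≫ j.left))) hs hcon hsol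
        (by rw [← Category.assoc, hgi, hb₀])
  obtain ⟨A, _, _, ψ, hA₁, hA₂, hA₃, hA₄⟩ := exists_chart G
  obtain ⟨A₀, _, _, θ, hθ₁, hθ₂, hθ₃, hθ₄⟩ := exists_chart G₀
  haveI := hA₁; haveI := hA₂; haveI := hA₃; haveI := hA₄
  haveI := hθ₁; haveI := hθ₂; haveI := hθ₃; haveI := hθ₄
  rw [FinInv.subringFG_iff ψ i, FinInv.fg_iff_finiteIndex ψ i a, ← hi₀, FinInv.fg_iff_open ψ θ j i₀]
  refine invSub_fg_over θ i₀ hB₀ hU f₀ ((cancel_mono j).1 ?_)
  rw [Category.assoc, hi₀, ← Category.assoc, hf₀, hf, Category.assoc, hb₀]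

end Groth.L16.Grosshans
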