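import Groth.Agent.L16.Grosshans.Main
import Groth.Agent.L08.Borel.SolvTori

/-!
# Weight spaces of functions invariant under the unipotent radical
-/

set_option autoImplicit false
set_option backward.isDefEq.respectTransparency.types false
set_option linter.style.haveILetI false
set_option linter.unusedSectionVars false
set_option maxHeartbeats 1000000

universe u

open CategoryTheory CategoryTheory.Limits MonoidalCategory CartesianMonoidalCategory MonObj GrpObj AlgebraicGeometry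
open WithConv
open Groth.L25.Observable

noncomputable section

namespace Groth.L16.Grosshans

variable {k : Type u} [Field k] [IsAlgClosed k]

local notation "U1" => 𝟙_ (Over (Spec (CommRingCat.of k)))

/-- A maximal torus maps onto every torus quotient with unipotent kernel, on rational points. -/
theorem surjective_to_quot_torus {G Bo T T₀ : Over (Spec (CommRingCat.of k))} [GrpObj G] [GrpObj Bo] [GrpObj T]
    [GrpObj T₀] [IsAffine Bo.left] [Smooth Bo.hom] [ConnectedSpace Bo.left] (hsol : Red.IsSolvableGrp Bo)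
    (iB : Bo ⟶ G) [IsMonHom iB] [IsClosedImmersion iB.left] (t : T ⟶ Bo) [IsMonHom t]
    (hT : AGF.IsMaxTorus (t ≫ iB)) (hT₀ : Red.IsTorus T₀) (iT : T₀ ⟶ Bo) (p : Bo ⟶ T₀) [IsMonHom p]
    (hip : iT ≫ p = 𝟙 T₀) : ∀ s : VecGrp.pt k k ⟶ T₀, ∃ z : VecGrp.pt k k ⟶ T, z ≫ t ≫ p = s := by
  haveI : Mono iB := Groth.L08.mono_of_closedImmersion iB
  haveI := hT.2.1
  haveI : Mono t := mono_of_mono t iB
  obtain ⟨T₁, _, i₁, p₁, hm, hmono, hT₁, hp₁, hip₁, hfac, habs⟩ := Groth.L08.Borel.exists_torus_absorbing hsol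
  haveI := hm; haveI := hmono; haveI := hp₁
  obtain ⟨g, f, hf⟩ := habs T t hT.2.2.1
  haveI : IsMonHom (AGF.conjBy g⁻¹ i₁) := Groth.L08.Borel.isMonHom_conjBy _ _
  haveI : Mono (AGF.conjBy g⁻¹ i₁) := Groth.L08.Borel.mono_conjBy _ _
  haveI : Mono (AGF.conjBy g⁻¹ i₁ ≫ iB) := mono_comp _ _
  haveI : IsIso f := hT.2.2.2 T₁ (AGF.conjBy g⁻¹ i₁ ≫ iB) f hT₁ (by
    rw [← Category.assoc, Groth.L08.Borel.comp_conjBy, hf, Groth.L08.Borel.conjBy_conjBy, inv_mul_cancel,
      Groth.L08.Borel.conjBy_one])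
  obtain ⟨-, -, -, -, hcomm⟩ := Groth.L08.Borel.torus_props hT₀
  have hfp : f ≫ i₁ ≫ p = t ≫ p := by
    rw [← Category.assoc, hf, Groth.L08.Borel.conjBy_comp, AGF.conjBy, hcomm, ← _root_.mul_assoc, inv_mul_cancel,
      _root_.one_mul]
  intro s
  refine ⟨(s ≫ iT ≫ p₁) ≫ inv f, ?_⟩
  rw [← hfp]
  simp only [Category.assoc, IsIso.inv_hom_id_assoc]
  rw [show p₁ ≫ i₁ ≫ p = p from (hfac T₀ p hT₀).symm, hip, Category.comp_id]

/-- The functions of a given weight span a finite-dimensional space. -/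
theorem exists_weight_space {G Bo U T : Over (Spec (CommRingCat.of k))} [GrpObj G] [GrpObj Bo] [GrpObj U] [GrpObj T]
    [IsAffine G.left] [Smooth G.hom] [ConnectedSpace G.left] {A : Type u} [CommRing A] [HopfAlgebra k A]
    (ψ : G ⟶ Sp k A) [IsMonHom ψ] [IsIso ψ] [_root_.IsReduced A] [Algebra.FiniteType k A]
    {iB : Bo ⟶ G} (hB : Red.IsBorelOver k iB) {u : U ⟶ Bo} (hU : Par.IsUnipotentRadical u)
    (t : T ⟶ Bo) [IsMonHom t] (hT : AGF.IsMaxTorus (t ≫ iB)) (ω : (VecGrp.pt k k ⟶ T) → k) :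
    ∃ W : Submodule k A, W.FG ∧ ∀ f ∈ FinInv.invSub ψ (u ≫ iB),
      (∀ (x : VecGrp.pt k k ⟶ G) (z : VecGrp.pt k k ⟶ T),
        (ev ψ (x * (z ≫ t ≫ iB))).ofConv f = ω z * (ev ψ x).ofConv f) → f ∈ W := by
  classical
  haveI := hB.1; haveI := hB.2.1; haveI := hB.2.2.1; haveI := hB.2.2.2.1; haveI := hU.1
  haveI : IsAffine Bo.left := isAffine_of_isAffineHom iB.left
  haveI : IsDomain A := isDomain ψ
  haveI : IsIntegrallyClosed A := isIntegrallyClosed_coord ψ
  obtain ⟨n, T₀, _, ψT, iT, p, hTa, h1, h2, h3, h4, hT₀, h6, h7, h8, hip, hup, hker⟩ :=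
    exists_torus_data hB.2.2.2.2.1 hU
  haveI := hTa; haveI := h1; haveI := h2; haveI := h3; haveI := h4; haveI := h6; haveI := h7; haveI := h8
  haveI : IsClosedImmersion (iT ≫ iB).left := inferInstanceAs (IsClosedImmersion (iT.left ≫ iB.left))
  obtain ⟨a₀, w, ha₀, hcell⟩ := exists_cell_fun ψ hB
  have hR := invSub_fg ψ ψT iB iT p u hB subgroup_fg hip hup hker ha₀ hcell
  have hsurj := surjective_to_quot_torus hB.2.2.2.2.1 iB t hT hT₀ iT p hip
  let P : Multiplicative (Fin n → ℤ) → Prop := fun m =>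
    ∀ z : VecGrp.pt k k ⟶ T, (ev ψT (z ≫ t ≫ p)).ofConv (MonoidAlgebra.of k _ m) = ω z
  have huniq : ∀ m m', P m → P m' → m = m' := fun m m' hm hm' => by
    have e : MonoidAlgebra.of k _ m = MonoidAlgebra.of k _ m' := eq_of_forall_ev ψT fun s => by
      obtain ⟨z, hz⟩ := hsurj s
      rw [← hz, hm z, hm' z]
    exact MonoidAlgebra.of_injective (R := k) e
  have hP : ∀ f ∈ FinInv.invSub ψ (u ≫ iB), f ≠ 0 →
      (∀ (x : VecGrp.pt k k ⟶ G) (z : VecGrp.pt k k ⟶ T),
        (ev ψ (x * (z ≫ t ≫ iB))).ofConv f = ω z * (ev ψ x).ofConv f) →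
      ∃ m, P m ∧ f ∈ deg ψ iB (degFun ψT p) m := by
    intro f hf hf0 hω
    obtain ⟨c, hc, rfl⟩ := exists_decomp ψ ψT iB iT p u hip hker hf
    have hzero : ∀ z : VecGrp.pt k k ⟶ T, ∀ m ∈ c.support,
        ((ev ψT (z ≫ t ≫ p)).ofConv (MonoidAlgebra.of k _ m) - ω z) • c m = 0 := by
      intro z
      refine deg_independent ψ ψT iB iT p hip c.support _ (fun m _ => Submodule.smul_mem _ _ (hc m)) ?_
      refine eq_of_forall_ev ψ fun x => ?_
      have h := hω x z
      rw [Finsupp.sum, map_sum, map_sum, Finset.mul_sum] at h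
      rw [map_zero, map_sum]
      simp only [map_smul, smul_eq_mul, sub_mul, Finset.sum_sub_distrib]
      rw [sub_eq_zero, ← h]
      refine Finset.sum_congr rfl fun m _ => ?_
      have h' := hc m x (z ≫ t)
      rw [chr_degFun, Category.assoc, Category.assoc] at h'
      exact h'.symm
    have hall : ∀ m ∈ c.support, P m := fun m hm z => by
      have h := (smul_eq_zero.1 (hzero z m hm)).resolve_right (Finsupp.mem_support_iff.1 hm)
      exact sub_eq_zero.1 h
    obtain ⟨m, hm⟩ : c.support.Nonempty := Finset.nonempty_iff_ne_empty.2 fun e => hf0 (by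
      rw [Finsupp.sum, e, Finset.sum_empty])
    refine ⟨m, hall m hm, ?_⟩
    rw [Finsupp.sum]
    refine sum_mem fun m' hm' => ?_
    rw [huniq m m' (hall m hm) (hall m' hm')]
    exact hc m'
  by_cases hex : ∃ m, P m
  · obtain ⟨m, hm⟩ := hex
    refine ⟨deg ψ iB (degFun ψT p) m, deg_fg ψ ψT iB iT p u hB hip hup hker hR m, fun f hf hω => ?_⟩
    by_cases hf0 : f = 0
    · rw [hf0]; exact zero_mem _
    obtain ⟨m', hm', hfm⟩ := hP f hf hf0 hω
    rwa [huniq m m' hm hm']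
  · refine ⟨⊥, Submodule.fg_bot, fun f hf hω => ?_⟩
    by_contra hf0
    obtain ⟨m, hm, -⟩ := hP f hf (fun e => hf0 (e ▸ zero_mem _)) hω
    exact hex ⟨m, hm⟩

/-- A weight condition on global functions, on rational points. -/
theorem semi_of_appTop {G T : Over (Spec (CommRingCat.of k))} [GrpObj G] {A : Type u} [CommRing A]
    [HopfAlgebra k A] (ψ : G ⟶ Sp k A) [IsMonHom ψ] (i : T ⟶ G) (φ : Γ(T.left, ⊤)) (f : A)
    (h : ((G ◁ i) ≫ μ[G]).left.appTop (fn ψ f) =
      (fst G T).left.appTop (fn ψ f) * (snd G T).left.appTop φ)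
    (x : VecGrp.pt k k ⟶ G) (z : VecGrp.pt k k ⟶ T) :
    (ev ψ (x * (z ≫ i))).ofConv f = val z φ * (ev ψ x).ofConv f := by
  have h1 := congrArg (val (lift x z)) h
  rw [val_mul, ← val_comp, ← val_comp, ← val_comp, lift_fst, lift_snd, val_fn, val_fn] at h1
  rw [mul_comm] at h1
  rw [← h1, Hom.mul_def, lift_whiskerLeft_assoc]

end Groth.L16.Grosshans
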